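import Mathlib

/-!
# Two generators modulo `Om = ⟨W⟩ P'`

For a finite `p`-group `P` generated by `e`, `v`, `W` with `[W, v] ∈ [P', P]`, the subgroup
`Om = ⟨W⟩ P'` is characteristic and `P / Om` has coordinates given by `e` and `v`.
-/

set_option autoImplicit false

namespace CfsgLib.SmallEssential

open scoped commutatorElement Matrix

/-- Commutators of a group in terms of a set of generators. -/
theorem comm_le_of_gens {G : Type*} [Group G] {T Λ : Subgroup G} {s : Set G} (hsT : s ⊆ T)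
    (hgen : T ≤ Subgroup.closure s) (hΛ : ∀ t ∈ T, ∀ x ∈ Λ, t * x * t⁻¹ ∈ Λ)
    (h : ∀ a ∈ s, ∀ b ∈ s, ⁅a, b⁆ ∈ Λ) : ⁅T, T⁆ ≤ Λ := by
  let R : G → Subgroup G := fun u =>
    { carrier := {x | x ∈ T ∧ ⁅x, u⁆ ∈ Λ}
      one_mem' := ⟨T.one_mem, by rw [commutatorElement_one_left]; exact Λ.one_mem⟩
      mul_mem' := by
        rintro a b ⟨ha, ha'⟩ ⟨hb, hb'⟩
        refine ⟨T.mul_mem ha hb, ?_⟩
        rw [show ⁅a * b, u⁆ = a * ⁅b, u⁆ * a⁻¹ * ⁅a, u⁆ by simp only [commutatorElement_def]; group]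
        exact Λ.mul_mem (hΛ a ha _ hb') ha'
      inv_mem' := by
        rintro a ⟨ha, ha'⟩
        refine ⟨T.inv_mem ha, ?_⟩
        rw [show ⁅a⁻¹, u⁆ = a⁻¹ * ⁅a, u⁆⁻¹ * a⁻¹⁻¹ by simp only [commutatorElement_def]; group]
        exact hΛ _ (T.inv_mem ha) _ (Λ.inv_mem ha') }
  have h1 : ∀ b ∈ s, ∀ x ∈ T, ⁅x, b⁆ ∈ Λ := fun b hb x hx =>
    (((Subgroup.closure_le (R b)).2 fun a ha => ⟨hsT ha, h a ha b hb⟩) (hgen hx)).2
  refine Subgroup.commutator_le.2 fun x hx y hy => ?_
  refine (((Subgroup.closure_le (R y)).2 fun a ha => ⟨hsT ha, ?_⟩) (hgen hx)).2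
  rw [← commutatorElement_inv]
  exact Λ.inv_mem (h1 a ha y hy)

variable {P : Type*} [Group P]

/-- `[P', P]`. -/
def gam (P : Type*) [Group P] : Subgroup P := ⁅commutator P, (⊤ : Subgroup P)⁆

instance gam_normal : (gam P).Normal := Subgroup.commutator_normal _ _

/-- The elements central modulo `[P', P]`. -/
def Om (P : Type*) [Group P] : Subgroup P :=
  (Subgroup.center (P ⧸ gam P)).comap (QuotientGroup.mk' (gam P))

theorem mem_Om {x : P} : x ∈ Om P ↔ ∀ t : P, ⁅x, t⁆ ∈ gam P := by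
  rw [Om, Subgroup.mem_comap, Subgroup.mem_center_iff]
  constructor
  · intro h t
    rw [← QuotientGroup.eq_one_iff, ← QuotientGroup.mk'_apply, map_commutatorElement,
      commutatorElement_eq_one_iff_mul_comm]
    exact (h _).symm
  · intro h t
    obtain ⟨t, rfl⟩ := QuotientGroup.mk'_surjective (gam P) t
    refine (commutatorElement_eq_one_iff_mul_comm.1 ?_).symm
    rw [← map_commutatorElement]
    exact (QuotientGroup.eq_one_iff _).2 (h t)

theorem gam_le_commutator : gam P ≤ commutator P := Subgroup.commutator_le_left _ _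

theorem commutator_le_Om : commutator P ≤ Om P := fun _ hx =>
  mem_Om.2 fun t => Subgroup.commutator_mem_commutator hx (Subgroup.mem_top t)

instance Om_normal : (Om P).Normal := Subgroup.Normal.comap inferInstance _

theorem map_commutator_top {Q : Type*} [Group Q] (σ : P ≃* Q) :
    (commutator P).map σ.toMonoidHom = commutator Q := by
  rw [commutator_def, commutator_def, Subgroup.map_commutator,
    Subgroup.map_top_of_surjective _ σ.surjective]

theorem map_gam {Q : Type*} [Group Q] (σ : P ≃* Q) : (gam P).map σ.toMonoidHom = gam Q := by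
  rw [gam, gam, Subgroup.map_commutator, map_commutator_top, Subgroup.map_top_of_surjective _ σ.surjective]

theorem Om_map {Q : Type*} [Group Q] (σ : P ≃* Q) {x : P} (hx : x ∈ Om P) : σ x ∈ Om Q := by
  refine mem_Om.2 fun t => ?_
  rw [← σ.apply_symm_apply t, ← map_commutatorElement σ x, ← map_gam σ]
  exact ⟨_, mem_Om.1 hx _, rfl⟩

/-- Generators, modulo `P'`. -/
structure Frame (p : ℕ) (e v W : P) : Prop where
  he : e ^ p = 1
  hW : W ^ p = 1
  heW : e * W = W * e
  gen : ∀ x : P, ∃ i j l : ℤ, ∃ t ∈ commutator P, x = e ^ i * v ^ j * W ^ l * t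
  vp : ∃ l : ℤ, ∃ t ∈ commutator P, v ^ p = W ^ l * t
  hWv : ⁅W, v⁆ ∈ gam P
  hWnot : W ∉ commutator P
  hne : commutator P ≠ ⊥

theorem Frame.map {p : ℕ} {Q : Type*} [Group Q] {e v W : P} (h : Frame p e v W) (σ : P ≃* Q) :
    Frame p (σ e) (σ v) (σ W) where
  he := by rw [← map_pow, h.he, map_one]
  hW := by rw [← map_pow, h.hW, map_one]
  heW := by rw [← map_mul, h.heW, map_mul]
  gen x := by
    obtain ⟨i, j, l, t, ht, hx⟩ := h.gen (σ.symm x)
    refine ⟨i, j, l, σ t, map_commutator_top σ ▸ ⟨t, ht, rfl⟩, ?_⟩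
    rw [← σ.apply_symm_apply x, hx]
    simp only [map_mul, map_zpow]
  vp := by
    obtain ⟨l, t, ht, hx⟩ := h.vp
    exact ⟨l, σ t, map_commutator_top σ ▸ ⟨t, ht, rfl⟩, by rw [← map_pow, hx, map_mul, map_zpow]⟩
  hWv := by rw [← map_commutatorElement, ← map_gam σ]; exact ⟨_, h.hWv, rfl⟩
  hWnot hm := by
    rw [← map_commutator_top σ] at hm
    obtain ⟨w, hw, hwe⟩ := hm
    exact h.hWnot (σ.injective hwe ▸ hw)
  hne hb := h.hne ((Subgroup.map_eq_bot_iff_of_injective _ σ.injective).1 (map_commutator_top σ ▸ hb))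

variable {p : ℕ} [hp : Fact p.Prime] {e v W : P}

omit hp in
/-- A normal subgroup containing `[e, v]`, `[W, v]` and `[P', P]` contains `P'`. -/
theorem Frame.gen_comm (h : Frame p e v W) {Λ : Subgroup P} (hΛ : ∀ t, ∀ x ∈ Λ, t * x * t⁻¹ ∈ Λ)
    (hev : ⁅e, v⁆ ∈ Λ) (hWv : ⁅W, v⁆ ∈ Λ) (hg : gam P ≤ Λ) : commutator P ≤ Λ := by
  rw [commutator_def]
  refine comm_le_of_gens (s := {e, v, W} ∪ (commutator P : Set P)) (fun x _ => Subgroup.mem_top x)
    (fun x _ => ?_) (fun t _ => hΛ t) ?_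
  · obtain ⟨i, j, l, t, ht, rfl⟩ := h.gen x
    refine Subgroup.mul_mem _ (Subgroup.mul_mem _ (Subgroup.mul_mem _ ?_ ?_) ?_)
      (Subgroup.subset_closure (Or.inr ht)) <;>
    exact Subgroup.zpow_mem _ (Subgroup.subset_closure (show _ ∈ ({e, v, W} : Set P) ∪ _ from Or.inl (by simp))) _
  · have hr : ∀ a, ∀ b ∈ commutator P, ⁅b, a⁆ ∈ Λ := fun a b hb =>
      hg (Subgroup.commutator_mem_commutator hb (Subgroup.mem_top a))
    have hl : ∀ a b : P, ⁅a, b⁆ ∈ Λ → ⁅b, a⁆ ∈ Λ := fun a b hab => by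
      rw [← commutatorElement_inv]; exact Λ.inv_mem hab
    have hsame : ∀ a : P, ⁅a, a⁆ ∈ Λ := fun a => by rw [commutatorElement_self]; exact Λ.one_mem
    have heW' : ⁅e, W⁆ ∈ Λ := by rw [commutatorElement_eq_one_iff_mul_comm.2 h.heW]; exact Λ.one_mem
    rintro a (ha | ha) b (hb | hb)
    · simp only [Set.mem_insert_iff, Set.mem_singleton_iff] at ha hb
      rcases ha with rfl | rfl | rfl <;> rcases hb with rfl | rfl | rfl <;>
        first
        | exact hsame _
        | assumption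
        | exact hl _ _ hev
        | exact hl _ _ hWv
        | exact hl _ _ heW'
    · exact hl _ _ (hr a b hb)
    · exact hr b a ha
    · exact hr b a ha

variable [Finite P]

omit hp in
theorem eq_bot_of_le_commutator [Group.IsNilpotent P] {H : Subgroup P} (hH : H ≤ ⁅H, (⊤ : Subgroup P)⁆) :
    H = ⊥ := by
  have : ∀ n, H ≤ (⊤ : Subgroup P).lowerCentralSeries n := by
    intro n
    induction n with
    | zero => simp
    | succ n ih =>
      rw [Subgroup.lowerCentralSeries_succ]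
      exact hH.trans (Subgroup.commutator_mono ih le_rfl)
  refine le_bot_iff.1 ((this (Group.nilpotencyClass P)).trans ?_)
  rw [Subgroup.lowerCentralSeries_eq_bot_iff_nilpotencyClass_le.2 le_rfl]

theorem Frame.c_not_mem (h : Frame p e v W) (hP : IsPGroup p P) : ⁅e, v⁆ ∉ gam P := fun hc => by
  haveI := hP.isNilpotent
  exact h.hne (eq_bot_of_le_commutator (h.gen_comm
    (fun t x hx => (inferInstance : (gam P).Normal).conj_mem x hx t) hc h.hWv le_rfl))

omit hp [Finite P] in
theorem Frame.W_mem_Om (h : Frame p e v W) : W ∈ Om P := by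
  have he : ⁅e, W⁆ ∈ gam P := by
    rw [commutatorElement_eq_one_iff_mul_comm.2 h.heW]; exact Subgroup.one_mem _
  refine mem_Om.2 fun t => ?_
  obtain ⟨i, j, l, u, hu, rfl⟩ := h.gen t
  set q := QuotientGroup.mk' (gam P)
  have c1 : Commute (q W) (q e) := commutatorElement_eq_one_iff_mul_comm.1 (by
    rw [← map_commutatorElement, ← commutatorElement_inv, map_inv, inv_eq_one]
    exact (QuotientGroup.eq_one_iff _).2 he)
  have c2 : Commute (q W) (q v) := commutatorElement_eq_one_iff_mul_comm.1 (by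
    rw [← map_commutatorElement]; exact (QuotientGroup.eq_one_iff _).2 h.hWv)
  have c3 : Commute (q W) (q u) := (commutatorElement_eq_one_iff_mul_comm.1 (by
    rw [← map_commutatorElement]
    exact (QuotientGroup.eq_one_iff _).2 (Subgroup.commutator_mem_commutator hu (Subgroup.mem_top W)))).symm
  rw [← QuotientGroup.eq_one_iff, ← QuotientGroup.mk'_apply, map_commutatorElement,
    commutatorElement_eq_one_iff_mul_comm]
  simp only [map_mul, map_zpow]
  exact (((c1.zpow_right i).mul_right (c2.zpow_right j)).mul_right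
    ((Commute.refl (q W)).zpow_right l)).mul_right c3

omit hp in
/-- In the quotient by `[P', P]` commutators are bilinear. -/
theorem q_comm_zpow (x y : P) (i : ℤ) :
    ⁅(QuotientGroup.mk' (gam P)) x ^ i, (QuotientGroup.mk' (gam P)) y⁆ =
      ⁅(QuotientGroup.mk' (gam P)) x, (QuotientGroup.mk' (gam P)) y⁆ ^ i := by
  set q := QuotientGroup.mk' (gam P)
  have hcen : ∀ z : P ⧸ gam P, Commute ⁅q x, q y⁆ z := fun z => by
    obtain ⟨z, rfl⟩ := QuotientGroup.mk'_surjective (gam P) z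
    refine commutatorElement_eq_one_iff_mul_comm.1 ?_
    rw [← map_commutatorElement, ← map_commutatorElement]
    exact (QuotientGroup.eq_one_iff _).2 (Subgroup.commutator_mem_commutator
      (Subgroup.commutator_mem_commutator (Subgroup.mem_top x) (Subgroup.mem_top y)) (Subgroup.mem_top z))
  have h1 : q y * q x * (q y)⁻¹ = ⁅q x, q y⁆⁻¹ * q x := by rw [commutatorElement_def]; group
  have h2 : q y * q x ^ i * (q y)⁻¹ = ⁅q x, q y⁆⁻¹ ^ i * q x ^ i := by
    rw [← conj_zpow, h1, Commute.mul_zpow ((hcen _).inv_left)]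
  calc ⁅q x ^ i, q y⁆ = q x ^ i * (q y * q x ^ i * (q y)⁻¹)⁻¹ := by rw [commutatorElement_def]; group
    _ = ⁅q x, q y⁆ ^ i := by rw [h2, inv_zpow, mul_inv_rev, inv_inv, mul_inv_cancel_left]

theorem Frame.dvd_of_pow_c (h : Frame p e v W) (hP : IsPGroup p P) {i : ℤ}
    (hi : ⁅(QuotientGroup.mk' (gam P)) e, (QuotientGroup.mk' (gam P)) v⁆ ^ i = 1) : (p : ℤ) ∣ i := by
  set q := QuotientGroup.mk' (gam P)
  set c := ⁅q e, q v⁆ with hc
  have hne : c ≠ 1 := fun h1 => h.c_not_mem hP (by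
    rw [← QuotientGroup.eq_one_iff, ← QuotientGroup.mk'_apply, map_commutatorElement]; exact h1)
  have hcp : c ^ p = 1 := by
    rw [hc, ← zpow_natCast, ← q_comm_zpow, zpow_natCast, ← map_pow, h.he, map_one,
      commutatorElement_one_left]
  rw [← orderOf_eq_prime hcp hne]
  exact orderOf_dvd_iff_zpow_eq_one.2 hi

theorem Frame.mem_Om_iff (h : Frame p e v W) (hP : IsPGroup p P) {x : P} :
    x ∈ Om P ↔ ∃ l : ℤ, ∃ t ∈ commutator P, x = W ^ l * t := by
  refine ⟨fun hx => ?_, fun ⟨l, t, ht, hx⟩ => hx ▸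
    Subgroup.mul_mem _ (Subgroup.zpow_mem _ h.W_mem_Om l) (commutator_le_Om ht)⟩
  obtain ⟨i, j, l, t, ht, rfl⟩ := h.gen x
  have hev : e ^ i * v ^ j ∈ Om P := by
    have := Subgroup.mul_mem _ hx (Subgroup.inv_mem _
      (Subgroup.mul_mem _ (Subgroup.zpow_mem _ h.W_mem_Om l) (commutator_le_Om ht)))
    rwa [show e ^ i * v ^ j * W ^ l * t * (W ^ l * t)⁻¹ = e ^ i * v ^ j by group] at this
  set q := QuotientGroup.mk' (gam P) with hq
  have hcom : ∀ y, Commute (q (e ^ i * v ^ j)) (q y) := fun y =>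
    commutatorElement_eq_one_iff_mul_comm.1 (by
      rw [← map_commutatorElement]; exact (QuotientGroup.eq_one_iff _).2 (mem_Om.1 hev y))
  have hi : (p : ℤ) ∣ i := by
    refine h.dvd_of_pow_c hP ?_
    rw [← q_comm_zpow, commutatorElement_eq_one_iff_mul_comm]
    have := hcom v
    rw [map_mul, map_zpow, map_zpow] at this
    have h5 := this.mul_left (((Commute.refl (q v)).zpow_left j).inv_left)
    rw [mul_inv_cancel_right] at h5
    exact h5
  obtain ⟨i', rfl⟩ := hi
  have hei : e ^ ((p : ℤ) * i') = 1 := by rw [zpow_mul, zpow_natCast, h.he, one_zpow]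
  rw [hei, one_mul] at hcom
  have hj : (p : ℤ) ∣ j := by
    refine dvd_neg.1 (h.dvd_of_pow_c hP ?_)
    rw [zpow_neg, ← inv_zpow, commutatorElement_inv, ← q_comm_zpow, commutatorElement_eq_one_iff_mul_comm,
      ← map_zpow]
    exact hcom e
  obtain ⟨j', rfl⟩ := hj
  obtain ⟨l₁, t₁, ht₁, hv⟩ := h.vp
  have hpow : v ^ ((p : ℤ) * j') = (W ^ l₁ * t₁) ^ j' := by rw [zpow_mul, zpow_natCast, hv]
  -- in the commutative quotient
  set r := QuotientGroup.mk' (commutator P) with hr
  refine ⟨l₁ * j' + l, (W ^ (l₁ * j' + l))⁻¹ * (e ^ ((p : ℤ) * i') * v ^ ((p : ℤ) * j') * W ^ l * t), ?_,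
    (mul_inv_cancel_left _ _).symm⟩
  rw [← QuotientGroup.eq_one_iff, ← QuotientGroup.mk'_apply, ← hr, hei, hpow]
  have e1 : r t₁ = 1 := (QuotientGroup.eq_one_iff _).2 ht₁
  have e2 : r t = 1 := (QuotientGroup.eq_one_iff _).2 ht
  simp only [map_mul, map_inv, map_zpow, map_one, one_mul, e1, e2, mul_one]
  group

/-- Coordinates on `P / Om`. -/
theorem Frame.exists_coord (h : Frame p e v W) (hP : IsPGroup p P) :
    ∃ π : P → (Fin 2 → ZMod p), (∀ x y, π (x * y) = π x + π y) ∧ (∀ x, π x = 0 ↔ x ∈ Om P) ∧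
      π e = ![1, 0] ∧ π v = ![0, 1] := by
  classical
  set q := QuotientGroup.mk' (Om P) with hq
  have hcomm : ∀ a b : P ⧸ Om P, a * b = b * a := fun a b => by
    obtain ⟨a, rfl⟩ := QuotientGroup.mk'_surjective (Om P) a
    obtain ⟨b, rfl⟩ := QuotientGroup.mk'_surjective (Om P) b
    refine commutatorElement_eq_one_iff_mul_comm.1 ?_
    rw [← map_commutatorElement]
    exact (QuotientGroup.eq_one_iff _).2 (commutator_le_Om
      (Subgroup.commutator_mem_commutator (Subgroup.mem_top a) (Subgroup.mem_top b)))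
  have hspec : ∀ x, ∃ i j : ℤ, q x = q e ^ i * q v ^ j := fun x => by
    obtain ⟨i, j, l, t, ht, rfl⟩ := h.gen x
    refine ⟨i, j, ?_⟩
    have e1 : q W = 1 := (QuotientGroup.eq_one_iff _).2 h.W_mem_Om
    have e2 : q t = 1 := (QuotientGroup.eq_one_iff _).2 (commutator_le_Om ht)
    simp only [map_mul, map_zpow, e1, e2, one_zpow, mul_one]
  have huniq : ∀ i j : ℤ, q e ^ i * q v ^ j = 1 → (p : ℤ) ∣ i ∧ (p : ℤ) ∣ j := by
    intro i j hij
    have hmem : e ^ i * v ^ j ∈ Om P := by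
      rw [← QuotientGroup.eq_one_iff, ← QuotientGroup.mk'_apply, map_mul, map_zpow, map_zpow]
      exact hij
    set r := QuotientGroup.mk' (gam P) with hr
    have hc : ∀ y, Commute (r (e ^ i * v ^ j)) (r y) := fun y =>
      commutatorElement_eq_one_iff_mul_comm.1 (by
        rw [← map_commutatorElement]; exact (QuotientGroup.eq_one_iff _).2 (mem_Om.1 hmem y))
    have hi : (p : ℤ) ∣ i := by
      refine h.dvd_of_pow_c hP ?_
      rw [← q_comm_zpow, commutatorElement_eq_one_iff_mul_comm]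
      have := hc v
      rw [map_mul, map_zpow, map_zpow] at this
      have h5 := this.mul_left (((Commute.refl (r v)).zpow_left j).inv_left)
      rw [mul_inv_cancel_right] at h5
      exact h5
    refine ⟨hi, ?_⟩
    obtain ⟨i', rfl⟩ := hi
    refine dvd_neg.1 (h.dvd_of_pow_c hP ?_)
    rw [zpow_neg, ← inv_zpow, commutatorElement_inv, ← q_comm_zpow, commutatorElement_eq_one_iff_mul_comm,
      ← map_zpow]
    have := hc e
    rw [zpow_mul, zpow_natCast, h.he, one_zpow, one_mul] at this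
    exact this
  choose ci cj hcij using hspec
  have hkey : ∀ x (i j : ℤ), q x = q e ^ i * q v ^ j →
      ((ci x : ZMod p) = i ∧ (cj x : ZMod p) = j) := by
    intro x i j hx
    have h0 : q e ^ (ci x - i) * q v ^ (cj x - j) = 1 := by
      have h1 := (hcij x).symm.trans hx
      rw [zpow_sub, zpow_sub]
      calc q e ^ ci x * (q e ^ i)⁻¹ * (q v ^ cj x * (q v ^ j)⁻¹)
          = q e ^ ci x * q v ^ cj x * ((q e ^ i)⁻¹ * (q v ^ j)⁻¹) := by
            simp only [mul_assoc]
            congr 1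
            rw [← mul_assoc ((q e ^ i)⁻¹), hcomm ((q e ^ i)⁻¹) (q v ^ cj x)]
            simp only [mul_assoc]
        _ = 1 := by rw [h1, hcomm ((q e ^ i)⁻¹)]; group
    obtain ⟨a, b⟩ := huniq _ _ h0
    rw [← ZMod.intCast_zmod_eq_zero_iff_dvd, Int.cast_sub, sub_eq_zero] at a b
    exact ⟨a, b⟩
  refine ⟨fun x => ![(ci x : ZMod p), (cj x : ZMod p)], fun x y => ?_, fun x => ?_, ?_, ?_⟩
  · obtain ⟨a, b⟩ := hkey (x * y) (ci x + ci y) (cj x + cj y) (by
      rw [map_mul, hcij x, hcij y, zpow_add, zpow_add]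
      simp only [mul_assoc]
      congr 1
      rw [← mul_assoc, hcomm (q v ^ cj x)]
      simp only [mul_assoc])
    push_cast at a b
    ext k
    fin_cases k <;> simp [a, b]
  · constructor
    · intro hx
      have a := congrFun hx 0
      have b := congrFun hx 1
      simp only [Matrix.cons_val_zero, Matrix.cons_val_one, Matrix.cons_val, Pi.zero_apply,
        ZMod.intCast_zmod_eq_zero_iff_dvd] at a b
      obtain ⟨i', hi'⟩ := a
      obtain ⟨j', hj'⟩ := b
      obtain ⟨l₁, t₁, ht₁, hv⟩ := h.vp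
      rw [← QuotientGroup.eq_one_iff, ← QuotientGroup.mk'_apply, ← hq, hcij x, hi', hj', zpow_mul, zpow_mul,
        zpow_natCast, zpow_natCast, ← map_pow, ← map_pow, h.he, hv, map_one, one_zpow, one_mul,
        show q (W ^ l₁ * t₁) = 1 from (QuotientGroup.eq_one_iff _).2
          ((h.mem_Om_iff hP).2 ⟨l₁, t₁, ht₁, rfl⟩), one_zpow]
    · intro hx
      obtain ⟨a, b⟩ := hkey x 0 0 (by simp [hq, (QuotientGroup.eq_one_iff x).2 hx])
      ext k
      fin_cases k <;> simp [a, b]
  · obtain ⟨a, b⟩ := hkey e 1 0 (by simp)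
    ext k
    fin_cases k <;> simp [a, b]
  · obtain ⟨a, b⟩ := hkey v 0 1 (by simp)
    ext k
    fin_cases k <;> simp [a, b]

/-- The coordinates as a map. -/
noncomputable def Frame.coord (h : Frame p e v W) (hP : IsPGroup p P) : P → (Fin 2 → ZMod p) :=
  (h.exists_coord hP).choose

variable (h : Frame p e v W) (hP : IsPGroup p P)

theorem Frame.coord_mul (x y : P) : h.coord hP (x * y) = h.coord hP x + h.coord hP y :=
  (h.exists_coord hP).choose_spec.1 x y

theorem Frame.coord_eq_zero {x : P} : h.coord hP x = 0 ↔ x ∈ Om P :=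
  (h.exists_coord hP).choose_spec.2.1 x

theorem Frame.coord_e : h.coord hP e = ![1, 0] := (h.exists_coord hP).choose_spec.2.2.1

theorem Frame.coord_v : h.coord hP v = ![0, 1] := (h.exists_coord hP).choose_spec.2.2.2

/-- The coordinates as a homomorphism. -/
noncomputable def Frame.coordHom : P →* Multiplicative (Fin 2 → ZMod p) :=
  MonoidHom.mk' (fun x => Multiplicative.ofAdd (h.coord hP x)) fun x y => by
    rw [h.coord_mul hP x y, ofAdd_add]

theorem Frame.coord_one : h.coord hP 1 = 0 := congrArg Multiplicative.toAdd (map_one (h.coordHom hP))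

theorem Frame.coord_inv (x : P) : h.coord hP x⁻¹ = -h.coord hP x :=
  congrArg Multiplicative.toAdd (map_inv (h.coordHom hP) x)

theorem Frame.coord_zpow (x : P) (i : ℤ) : h.coord hP (x ^ i) = i • h.coord hP x :=
  congrArg Multiplicative.toAdd (map_zpow (h.coordHom hP) x i)

theorem Frame.coord_eq_iff {x y : P} : h.coord hP x = h.coord hP y ↔ x⁻¹ * y ∈ Om P := by
  rw [← h.coord_eq_zero hP, h.coord_mul, h.coord_inv, neg_add_eq_zero]

theorem Frame.coord_commutator {x : P} (hx : x ∈ commutator P) : h.coord hP x = 0 :=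
  (h.coord_eq_zero hP).2 (commutator_le_Om hx)

theorem Frame.coord_W : h.coord hP W = 0 := (h.coord_eq_zero hP).2 h.W_mem_Om

theorem Frame.coord_surj (a : Fin 2 → ZMod p) :
    h.coord hP (e ^ ((a 0).val : ℤ) * v ^ ((a 1).val : ℤ)) = a := by
  haveI : NeZero p := ⟨hp.out.ne_zero⟩
  rw [h.coord_mul, h.coord_zpow, h.coord_zpow, h.coord_e, h.coord_v]
  ext k
  fin_cases k <;> simp

/-- The matrix of an automorphism on the coordinates. -/
noncomputable def Frame.mat (σ : MulAut P) : Matrix (Fin 2) (Fin 2) (ZMod p) :=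
  Matrix.of fun i j => h.coord hP (σ (![e, v] j)) i

theorem Frame.mat_mulVec (σ : MulAut P) (x : P) : h.coord hP (σ x) = h.mat hP σ *ᵥ h.coord hP x := by
  obtain ⟨i, j, l, t, ht, rfl⟩ := h.gen x
  have hσW : h.coord hP (σ W) = 0 := (h.coord_eq_zero hP).2 (Om_map σ h.W_mem_Om)
  have hσt : h.coord hP (σ t) = 0 := (h.coord_eq_zero hP).2 (Om_map σ (commutator_le_Om ht))
  simp only [map_mul, map_zpow, h.coord_mul, h.coord_zpow, hσW, hσt, h.coord_W, h.coord_commutator hP ht,
    h.coord_e, h.coord_v, smul_zero, add_zero, Matrix.mulVec_add, Matrix.mulVec_smul]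
  ext k
  fin_cases k <;>
    (simp [Frame.mat, Matrix.mulVec, dotProduct, Fin.sum_univ_two] <;> rfl)

theorem Frame.mat_col (σ : MulAut P) (i : Fin 2) :
    h.mat hP σ i 0 = h.coord hP (σ e) i ∧ h.mat hP σ i 1 = h.coord hP (σ v) i := ⟨rfl, rfl⟩

theorem Frame.mat_ext {M : Matrix (Fin 2) (Fin 2) (ZMod p)} (σ : MulAut P)
    (h0 : h.coord hP (σ e) = fun i => M i 0) (h1 : h.coord hP (σ v) = fun i => M i 1) :
    h.mat hP σ = M := by
  ext i j
  fin_cases j
  · exact congrFun h0 i
  · exact congrFun h1 i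

/-- The matrices as a homomorphism. -/
noncomputable def Frame.matHom : MulAut P →* Matrix (Fin 2) (Fin 2) (ZMod p) where
  toFun := h.mat hP
  map_one' := h.mat_ext hP 1 (by ext i; fin_cases i <;> simp [h.coord_e hP, Matrix.one_apply])
    (by ext i; fin_cases i <;> simp [h.coord_v hP, Matrix.one_apply])
  map_mul' σ τ := h.mat_ext hP (σ * τ)
    (by rw [MulAut.mul_apply, h.mat_mulVec hP σ, ← (funext fun i => (h.mat_col hP τ i).1)]
        ext i; simp [Matrix.mul_apply, Matrix.mulVec, dotProduct])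
    (by rw [MulAut.mul_apply, h.mat_mulVec hP σ, ← (funext fun i => (h.mat_col hP τ i).2)]
        ext i; simp [Matrix.mul_apply, Matrix.mulVec, dotProduct])

theorem Frame.mat_conj (t : P) : h.mat hP (MulAut.conj t) = 1 := by
  refine h.mat_ext hP _ ?_ ?_ <;>
  · rw [MulAut.conj_apply, h.coord_mul, h.coord_mul, h.coord_inv]
    ext i
    fin_cases i <;> simp [h.coord_e hP, h.coord_v hP, Matrix.one_apply, Matrix.vecHead, Matrix.vecTail]

/-- Changing `v`. -/
theorem Frame.replace (hP : IsPGroup p P) {v' : P} (hb : h.coord hP v' 1 ≠ 0) : Frame p e v' W := by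
  haveI : NeZero p := ⟨hp.out.ne_zero⟩
  refine ⟨h.he, h.hW, h.heW, fun x => ?_, ?_, mem_Om.1 h.W_mem_Om v', h.hWnot, h.hne⟩
  · set j : ℤ := ((h.coord hP x 1 * (h.coord hP v' 1)⁻¹).val : ℤ) with hj
    set i : ℤ := ((h.coord hP x 0 - (j : ZMod p) * h.coord hP v' 0).val : ℤ) with hi
    have hmem : (e ^ i * v' ^ j)⁻¹ * x ∈ Om P := by
      rw [← h.coord_eq_iff hP, h.coord_mul, h.coord_zpow, h.coord_zpow, h.coord_e,
        ← Int.cast_smul_eq_zsmul (ZMod p) i, ← Int.cast_smul_eq_zsmul (ZMod p) j]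
      ext k
      fin_cases k <;> simp [hi, hj, hb]
    obtain ⟨l, t, ht, hlt⟩ := (h.mem_Om_iff hP).1 hmem
    refine ⟨i, j, l, t, ht, ?_⟩
    rw [mul_assoc (e ^ i * v' ^ j), ← hlt, mul_inv_cancel_left]
  · refine (h.mem_Om_iff hP).1 ((h.coord_eq_zero hP).1 ?_)
    rw [← zpow_natCast, h.coord_zpow]
    ext k
    simp

end CfsgLib.SmallEssential
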