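import Cfsg.Agent.Lib.LocalEvenB.SmallEssential.Normalizer
import Cfsg.Agent.Lib.Fusion.CentricExtend

/-!
# Climbing to the normalizer
-/

set_option autoImplicit false

namespace CfsgLib.SmallEssential

open Cfsg Cfsg.FusionSystem CfsgLib.Fusion
open scoped commutatorElement Matrix

variable {Ω : Type*} [Group Ω] {S : Subgroup Ω} [Finite S] {F : FusionSystem S} {p : ℕ} [hp : Fact p.Prime]
  {E T : Subgroup Ω} [Finite T] {hT : IsPGroup p T} {e v W : T} {α : MulAut T} {ε : ℤ}

/-- A map of the system on the normalizer, continuing `α` and sending `g` near `n`. -/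
theorem exists_extend (hS : IsPGroup p S) (hF : F.IsSaturated p) (hTS : T ≤ S) (hcT : F.IsCentric T)
    (hN : Nat.card (normalizerIn S T) = p * Nat.card T) (hmem : α ∈ F.autGroup T) {g n : normalizerIn S T} (hg : (g : Ω) ∉ T)
    (hgn : α * nHom S T g = nHom S T n * α) :
    ∃ ψ ∈ F.autGroup (normalizerIn S T),
      (∀ t : T, ψ (Subgroup.inclusion (le_normalizerIn hTS) t) =
        Subgroup.inclusion (le_normalizerIn hTS) (α t)) ∧
      ∃ r : T, ψ g = Subgroup.inclusion (le_normalizerIn hTS) r * n := by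
  have := finite_le (normalizerIn_le (S := S) T)
  obtain ⟨χ, hχ, hχt, r, hr⟩ := centric_extend hS hF hcT hmem g n hgn
  have hNR : (normalizerIn S T) ≤ T ⊔ Subgroup.zpowers (g : Ω) := fun x hx => by
    obtain ⟨i, hi⟩ := exists_pow_mul hTS hN hg ⟨x, hx⟩
    rw [show x = (g : Ω) ^ i * (((g : Ω) ^ i)⁻¹ * x) by group]
    exact Subgroup.mul_mem _ (Subgroup.mem_sup_right (Subgroup.pow_mem _ (Subgroup.mem_zpowers _) i))
      (Subgroup.mem_sup_left hi)
  set φ : (normalizerIn S T) →* Ω := χ.comp (Subgroup.inclusion hNR) with hφ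
  have hφt : ∀ t : T, φ (Subgroup.inclusion (le_normalizerIn hTS) t) = (α t : Ω) := fun t => hχt t
  have hφg : φ g = (r : Ω) * n := hr
  have hmemN : ∀ x : (normalizerIn S T), φ x ∈ (normalizerIn S T) := by
    intro x
    obtain ⟨i, hi⟩ := exists_pow_mul hTS hN hg x
    rw [show x = g ^ i * Subgroup.inclusion (le_normalizerIn hTS) ⟨_, hi⟩ from
      Subtype.ext (mul_inv_cancel_left ((g : Ω) ^ i) (x : Ω)).symm, map_mul, map_pow, hφt, hφg]
    exact (normalizerIn S T).mul_mem ((normalizerIn S T).pow_mem ((normalizerIn S T).mul_mem (le_normalizerIn hTS r.2) n.2) i) (le_normalizerIn hTS (α _).2)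
  set ψ₀ : (normalizerIn S T) →* (normalizerIn S T) := φ.codRestrict (normalizerIn S T) hmemN with hψ₀
  have hbij : Function.Bijective ψ₀ := by
    have hinj : Function.Injective ψ₀ := fun a b hab => by
      have h2 := F.injective_of_mem hχ (congrArg Subtype.val hab : φ a = φ b)
      exact Subtype.ext (congrArg Subtype.val h2 :)
    exact ⟨hinj, Finite.injective_iff_surjective.1 hinj⟩
  refine ⟨MulEquiv.ofBijective ψ₀ hbij, ?_, fun t => Subtype.ext (hφt t), r, Subtype.ext hφg⟩
  refine (mem_autGroup_iff (normalizerIn_le T)).2 ?_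
  exact hom_congr (restrict_mem hχ hNR) fun x => rfl

/-- The elements of a group with a central image generate a normal preimage. -/
theorem normal_comap_zpowers {G Q : Type*} [Group G] [Group Q] (q : G →* Q) {y : Q}
    (hy : ∀ z : Q, z * y = y * z) : ((Subgroup.zpowers y).comap q).Normal := by
  refine ⟨fun a ha n => ?_⟩
  obtain ⟨k, hk⟩ := Subgroup.mem_zpowers_iff.1 (Subgroup.mem_comap.1 ha)
  refine Subgroup.mem_comap.2 ?_
  rw [map_mul, map_mul, map_inv, ← hk, ((show Commute (q n) y from hy _).zpow_right k).eq,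
    mul_inv_cancel_right]
  exact Subgroup.zpow_mem _ (Subgroup.mem_zpowers y) k

/-- One step up. -/
theorem St.exists_step (hS : IsPGroup p S) (hF : F.IsSaturated p) (hp2 : p ≠ 2) (hcE : F.IsCentric E)
    (h : St F p hT E e v W α ε) (hlt : T < S) :
    ∃ (N : Subgroup Ω) (_ : Finite N) (hN : IsPGroup p N) (e' v' W' : N) (α' : MulAut N) (ε' : ℤ),
      T < N ∧ St F p hN E e' v' W' α' ε' := by
  classical
  haveI : NeZero p := ⟨hp.out.ne_zero⟩
  have hTS := h.core.TS
  obtain ⟨-, hNcard⟩ := h.core.fullyNormalized hS hlt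
  obtain ⟨g₀, hg₀, hg₀T⟩ := exists_mem_normalizerIn_not_mem hS hlt
  set g : normalizerIn S T := ⟨g₀, hg₀⟩ with hgdef
  have hg : (g : Ω) ∉ T := hg₀T
  obtain ⟨h1, hαv, hge, hgv⟩ := h.commutator_gen hp2 hS hlt hg
  generalize hx : nHom S T g e * e⁻¹ = x at h1 hαv hge hgv
  obtain ⟨n, hgn, hn⟩ := exists_conj_image hS hF hlt h1 hT h.mem h.he h.heps hαv hg hge hgv
  obtain ⟨ψ, hψ, hψt, r, hψg⟩ := exists_extend hS hF hTS (isCentric_mono hcE h1.ET hTS) hNcard h.mem hg hgn
  set f := h1.frame
  set ι : T →* (normalizerIn S T) := Subgroup.inclusion (le_normalizerIn hTS) with hι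
  have hfinN : Finite (normalizerIn S T) := finite_le (normalizerIn_le (S := S) T)
  have hNp : IsPGroup p (normalizerIn S T) := hS.to_le (normalizerIn_le (S := S) T)
  have hιi : Function.Injective ι := Subgroup.inclusion_injective _
  have hconj : ∀ (m : (normalizerIn S T)) (t : T), m * ι t * m⁻¹ = ι (nHom S T m t) := fun m t => Subtype.ext rfl
  set D : Subgroup (normalizerIn S T) := (commutator T).map ι with hD
  haveI hDn : D.Normal := ⟨by
    rintro _ ⟨t, ht, rfl⟩ m
    exact ⟨nHom S T m t, map_commutator_top (nHom S T m) ▸ ⟨t, ht, rfl⟩, (hconj m t).symm⟩⟩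
  set q := QuotientGroup.mk' D with hq
  have hqD : ∀ {t : T}, t ∈ commutator T → q (ι t) = 1 := fun ht =>
    (QuotientGroup.eq_one_iff _).2 ⟨_, ht, rfl⟩
  have hqc : ∀ a b : T, q (ι a) * q (ι b) = q (ι b) * q (ι a) := fun a b => by
    refine commutatorElement_eq_one_iff_mul_comm.1 ?_
    rw [← map_commutatorElement, ← map_commutatorElement]
    exact hqD (Subgroup.commutator_mem_commutator (Subgroup.mem_top a) (Subgroup.mem_top b))
  have hqker : ∀ {t : T}, q (ι t) = 1 → t ∈ commutator T := fun {t} ht => by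
    obtain ⟨u, hu, hut⟩ := (QuotientGroup.eq_one_iff _).1 ht
    exact hιi hut ▸ hu
  have hqW : q (ι W) ≠ 1 := fun h0 => f.hWnot (hqker h0)
  have hoW : orderOf (q (ι W)) = p := orderOf_eq_prime (by rw [← map_pow, ← map_pow, f.hW, map_one, map_one]) hqW
  -- relations modulo `D`
  have hgW : Commute (q g) (q (ι W)) := by
    have h2 : q (ι (nHom S T g W)) = q (ι W) := by
      rw [← mul_inv_cancel_left W (nHom S T g W), map_mul ι, map_mul, hqD (W_congr (hT := hT) f hS g), mul_one]
    rw [← hconj g W] at h2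
    simpa [mul_inv_eq_iff_eq_mul, Commute, SemiconjBy] using h2
  have hgx : q g * q (ι e) * (q g)⁻¹ = q (ι x) * q (ι e) := by
    rw [← map_inv, ← map_mul, ← map_mul, hconj, ← map_mul, ← map_mul, ← hx, inv_mul_cancel_right]
  obtain ⟨d, t, ht, hdt⟩ := (f.mem_Om_iff hT).1 ((f.coord_eq_iff hT).1
    ((f.coord_v hT).trans hgv.symm : f.coord hT x = f.coord hT (nHom S T g x)))
  have hgxd : q g * q (ι x) * (q g)⁻¹ = q (ι W) ^ d * q (ι x) := by
    rw [← map_inv, ← map_mul, ← map_mul, hconj, ← mul_inv_cancel_left x (nHom S T g x), hdt, map_mul ι,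
      map_mul ι, map_mul, map_mul, hqD ht, mul_one, map_zpow ι, map_zpow]
    exact (((show Commute (q (ι W)) (q (ι x)) from hqc _ _).zpow_left d).eq).symm
  -- `ψ`
  have hψD : ∀ a b : (normalizerIn S T), q a = q b → q (ψ a) = q (ψ b) := fun a b hab => by
    rw [hq, QuotientGroup.mk'_apply, QuotientGroup.mk'_apply, QuotientGroup.eq] at hab ⊢
    obtain ⟨t, ht, hte⟩ := hab
    rw [← map_inv, ← map_mul, ← hte, hψt]
    exact ⟨α t, map_commutator_top α ▸ ⟨t, ht, rfl⟩, rfl⟩
  set n' : T := ⟨((g ^ (-ε))⁻¹ * n : (normalizerIn S T)).val, hn⟩ with hn'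
  have hnval : n = g ^ (-ε) * ι n' := Subtype.ext (mul_inv_cancel_left ((g : Ω) ^ (-ε)) (n : Ω)).symm |>.trans rfl
  set u : T := nHom S T (g ^ (-ε))⁻¹ r * n' with hu
  have hψg' : ψ g = g ^ (-ε) * ι u := by
    rw [hψg, hnval, hu, map_mul ι, ← hconj]
    group
  have hd : (p : ℤ) ∣ d := by
    have hαx : (α x)⁻¹ * x ^ ε ∈ Om T := by
      rw [← f.coord_eq_iff hT, hαv, f.coord_zpow, f.coord_v, Int.cast_smul_eq_zsmul]
    obtain ⟨m, t', ht', hm⟩ := (f.mem_Om_iff hT).1 hαx
    have hqax : q (ι (α x)) = q (ι x) ^ ε * (q (ι W) ^ m)⁻¹ := by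
      have h2 : α x = x ^ ε * (W ^ m * t')⁻¹ := by rw [← hm]; group
      rw [h2, map_mul ι, map_mul, map_inv ι, map_inv, map_mul ι, map_mul, hqD ht', mul_one, map_zpow ι,
        map_zpow ι, map_zpow, map_zpow]
    have hgi : ∀ i : ℤ, q g ^ i * q (ι x) * (q g ^ i)⁻¹ = q (ι W) ^ (d * i) * q (ι x) := by
      intro i
      induction i with
      | zero => simp
      | succ k ih =>
        calc q g ^ ((k : ℤ) + 1) * q (ι x) * (q g ^ ((k : ℤ) + 1))⁻¹
            = q g * (q g ^ (k : ℤ) * q (ι x) * (q g ^ (k : ℤ))⁻¹) * (q g)⁻¹ := by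
              rw [zpow_add_one, ← (Commute.self_zpow (q g) (k : ℤ)).eq]; group
          _ = (q g * q (ι W) ^ (d * k) * (q g)⁻¹) * (q g * q (ι x) * (q g)⁻¹) := by rw [ih]; group
          _ = _ := by rw [hgxd, (hgW.zpow_right _).eq, mul_inv_cancel_right, ← mul_assoc, ← zpow_add]; ring_nf
      | pred k ih =>
        calc q g ^ (-(k : ℤ) - 1) * q (ι x) * (q g ^ (-(k : ℤ) - 1))⁻¹
            = (q g)⁻¹ * (q g ^ (-(k : ℤ)) * q (ι x) * (q g ^ (-(k : ℤ)))⁻¹) * q g := by
              rw [zpow_sub_one, ← ((Commute.self_zpow (q g) (-(k : ℤ))).inv_left).eq]; group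
          _ = q (ι W) ^ (d * -(k : ℤ)) * ((q g)⁻¹ * q (ι x) * q g) := by
              rw [ih, show (q g)⁻¹ * (q (ι W) ^ (d * -(k : ℤ)) * q (ι x)) * q g =
                ((q g)⁻¹ * q (ι W) ^ (d * -(k : ℤ))) * q (ι x) * q g by group,
                ((hgW.inv_left).zpow_right _).eq]
              group
          _ = _ := by
              have h3 : (q g)⁻¹ * q (ι x) * q g = q (ι W) ^ (-d) * q (ι x) := by
                have h4 : (q g)⁻¹ * (q (ι W) ^ d * q (ι x)) * q g = q (ι x) := by rw [← hgxd]; group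
                rw [← mul_assoc, ((hgW.inv_left).zpow_right d).eq] at h4
                rw [show q (ι W) ^ (-d) * q (ι x) = q (ι W) ^ (-d) * (q (ι W) ^ d * (q g)⁻¹ * q (ι x) * q g) by
                  rw [h4]]
                group
              rw [h3, ← mul_assoc, ← zpow_add]; ring_nf
    have hleft : q (ψ (g * ι x * g⁻¹)) = q (ι W) ^ d * (q (ι x) ^ ε * (q (ι W) ^ m)⁻¹) := by
      have h2 : q (g * ι x * g⁻¹) = q (ι (W ^ d * x)) := by
        rw [map_mul, map_mul, map_inv, hgxd, map_mul ι, map_zpow ι, map_mul, map_zpow]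
      rw [hψD _ _ h2, hψt, map_mul α, map_zpow α, h.hW, map_mul ι, map_mul, map_zpow ι, map_zpow, hqax]
    have hright : q (ψ (g * ι x * g⁻¹)) =
        q (ι W) ^ (d * (-ε) * ε) * (q (ι x) ^ ε * (q (ι W) ^ m)⁻¹) := by
      have hu1 : Commute (q (ι u)) (q (ι (α x))) := hqc _ _
      rw [map_mul ψ, map_mul ψ, map_inv ψ, hψt, hψg', map_mul, map_mul, map_inv, map_mul,
        show ∀ G U X : (normalizerIn S T) ⧸ D, Commute U X → G * U * X * (G * U)⁻¹ = G * X * G⁻¹ from fun G U X hUX => by
          rw [mul_assoc G U X, hUX.eq]; group, map_zpow q g, hqax]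
      · calc q g ^ (-ε) * (q (ι x) ^ ε * (q (ι W) ^ m)⁻¹) * (q g ^ (-ε))⁻¹
            = (q g ^ (-ε) * q (ι x) * (q g ^ (-ε))⁻¹) ^ ε *
              (q g ^ (-ε) * (q (ι W) ^ m)⁻¹ * (q g ^ (-ε))⁻¹) := by
              rw [conj_zpow]; group
          _ = _ := by
            rw [hgi, ((hgW.zpow_zpow (-ε) m).inv_right).eq, mul_inv_cancel_right,
              ((show Commute (q (ι W)) (q (ι x)) from hqc _ _).zpow_left (d * -ε)).mul_zpow, ← zpow_mul,
              mul_assoc]
      · exact hu1
    have h2 : q (ι W) ^ (d * (-ε) * ε) = q (ι W) ^ d := mul_right_cancel (hright.symm.trans hleft)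
    have h3 := zpow_eq_zpow_iff_modEq.1 h2
    rw [hoW] at h3
    have h4 := h3.dvd
    rcases h.heps with he | he <;> subst he <;> ring_nf at h4
    · rcases (Nat.prime_iff_prime_int.1 hp.out).dvd_or_dvd (show (p : ℤ) ∣ d * 2 by simpa [mul_comm] using h4)
        with h5 | h5
      · exact h5
      · exact absurd ((Nat.prime_dvd_prime_iff_eq hp.out Nat.prime_two).1 (by exact_mod_cast h5)) hp2
    · rcases (Nat.prime_iff_prime_int.1 hp.out).dvd_or_dvd (show (p : ℤ) ∣ d * 2 by simpa [mul_comm] using h4)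
        with h5 | h5
      · exact h5
      · exact absurd ((Nat.prime_dvd_prime_iff_eq hp.out Nat.prime_two).1 (by exact_mod_cast h5)) hp2
  have hgxc : Commute (q g) (q (ι x)) := by
    obtain ⟨d', rfl⟩ := hd
    rw [zpow_mul, zpow_natCast, ← hoW, pow_orderOf_eq_one, one_zpow, one_mul] at hgxd
    exact mul_inv_eq_iff_eq_mul.1 hgxd
  have hxp : q (ι x) ^ p = 1 := by
    have h2 : (q g * q (ι e) * (q g)⁻¹) ^ p = 1 := by
      rw [conj_pow, ← map_pow, ← map_pow, f.he, map_one, map_one, mul_one, mul_inv_cancel]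
    rw [hgx, (show Commute (q (ι x)) (q (ι e)) from hqc _ _).mul_pow, ← map_pow q (ι e), ← map_pow ι e, f.he,
      map_one, map_one, mul_one] at h2
    exact h2
  have hxcen : ∀ z : (normalizerIn S T) ⧸ D, z * q (ι x) = q (ι x) * z := by
    intro z
    obtain ⟨m, rfl⟩ := QuotientGroup.mk'_surjective D z
    obtain ⟨i, hi⟩ := exists_pow_mul hTS hNcard hg m
    rw [show m = g ^ i * ι ⟨_, hi⟩ from Subtype.ext (mul_inv_cancel_left ((g : Ω) ^ i) (m : Ω)).symm, ← hq,
      map_mul, map_pow]
    exact ((hgxc.pow_left i).mul_left (hqc _ x)).eq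
  -- the derived group of `(normalizerIn S T)`
  set K := (Subgroup.zpowers (q (ι x))).comap q with hK
  have hKn : K.Normal := normal_comap_zpowers q hxcen
  have hKmem : ∀ {m : (normalizerIn S T)}, q m = 1 → m ∈ K := fun {m} hm => by
    rw [hK, Subgroup.mem_comap, hm]; exact Subgroup.one_mem _
  have hxN : ι x ∈ commutator (normalizerIn S T) := by
    have h2 : ι x = ⁅g, ι e⁆ := by
      rw [commutatorElement_def, hconj, ← hx, map_mul, map_inv]
    rw [h2]
    exact Subgroup.commutator_mem_commutator (Subgroup.mem_top _) (Subgroup.mem_top _)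
  have hDN : D ≤ commutator (normalizerIn S T) := by
    rw [hD, commutator_def, commutator_def, Subgroup.map_commutator]
    exact Subgroup.commutator_mono le_top le_top
  have hKN : K ≤ commutator (normalizerIn S T) := by
    intro m hm
    obtain ⟨k, hk⟩ := Subgroup.mem_zpowers_iff.1 (Subgroup.mem_comap.1 hm)
    rw [← map_zpow, hq, QuotientGroup.mk'_apply, QuotientGroup.mk'_apply, QuotientGroup.eq] at hk
    have h2 := (commutator (normalizerIn S T)).mul_mem ((commutator (normalizerIn S T)).zpow_mem hxN k) (hDN hk)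
    rwa [mul_inv_cancel_left] at h2
  have hNK : commutator (normalizerIn S T) ≤ K := by
    rw [commutator_def]
    refine comm_le_of_gens (s := insert g (Set.range ι)) (fun y _ => Subgroup.mem_top y) (fun y _ => ?_)
      (fun y _ a ha => hKn.conj_mem a ha y) ?_
    · obtain ⟨i, hi⟩ := exists_pow_mul hTS hNcard hg y
      rw [show y = g ^ i * ι ⟨_, hi⟩ from Subtype.ext (mul_inv_cancel_left ((g : Ω) ^ i) (y : Ω)).symm]
      exact Subgroup.mul_mem _ (Subgroup.pow_mem _ (Subgroup.subset_closure (Set.mem_insert _ _)) i)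
        (Subgroup.subset_closure (Set.mem_insert_of_mem _ ⟨_, rfl⟩))
    · have hgt : ∀ t : T, ⁅g, ι t⁆ ∈ K := by
        intro t
        obtain ⟨i, j, l, t', ht', rfl⟩ := f.gen t
        rw [hK, Subgroup.mem_comap, map_commutatorElement, map_mul ι, map_mul ι, map_mul ι, map_mul, map_mul,
          map_mul, hqD ht', mul_one, map_zpow ι, map_zpow ι, map_zpow ι, map_zpow, map_zpow, map_zpow,
          commutatorElement_def,
          show q g * (q (ι e) ^ i * q (ι x) ^ j * q (ι W) ^ l) * (q g)⁻¹ =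
            (q g * q (ι e) * (q g)⁻¹) ^ i * (q g * q (ι x) ^ j * (q g)⁻¹) * (q g * q (ι W) ^ l * (q g)⁻¹) by
              rw [conj_zpow]; group,
          hgx, (hgxc.zpow_right j).eq, (hgW.zpow_right l).eq, mul_inv_cancel_right, mul_inv_cancel_right,
          (show Commute (q (ι x)) (q (ι e)) from hqc _ _).mul_zpow]
        refine Subgroup.mem_zpowers_iff.2 ⟨i, ?_⟩
        group
      rintro a (rfl | ⟨t, rfl⟩) b (rfl | ⟨t', rfl⟩)
      · rw [commutatorElement_self]; exact K.one_mem
      · exact hgt t'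
      · rw [← commutatorElement_inv]; exact K.inv_mem (hgt t)
      · rw [← map_commutatorElement ι]
        exact hKmem (hqD (Subgroup.commutator_mem_commutator (Subgroup.mem_top _) (Subgroup.mem_top _)))
  have hKeq : commutator (normalizerIn S T) = K := le_antisymm hNK hKN
  have hπx : f.coord hT x = ![0, 1] := f.coord_v hT
  have hqx1 : q (ι x) ≠ 1 := fun h0 => by
    have h2 := f.coord_commutator hT (hqker h0)
    rw [hπx] at h2
    exact one_ne_zero (congrFun h2 1)
  have hKcard : Nat.card K = p * Nat.card (commutator T) := by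
    have hc : Nat.card (q ⁻¹' (Subgroup.zpowers (q (ι x)) : Set ((normalizerIn S T) ⧸ D))) =
        Nat.card D * Nat.card (Subgroup.zpowers (q (ι x))) := by
      rw [← Nat.card_prod]
      exact Nat.card_congr (QuotientGroup.preimageMkEquivSubgroupProdSet D _)
    rw [show Nat.card K = Nat.card (q ⁻¹' (Subgroup.zpowers (q (ι x)) : Set ((normalizerIn S T) ⧸ D))) from rfl, hc,
      Nat.card_zpowers, orderOf_eq_prime hxp hqx1, hD, Subgroup.card_map_of_injective hιi, mul_comm]
  have hWnot : ι W ∉ commutator (normalizerIn S T) := by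
    rw [hKeq, hK, Subgroup.mem_comap, Subgroup.mem_zpowers_iff]
    rintro ⟨k, hk⟩
    have h2 : (x ^ k)⁻¹ * W ∈ commutator T := hqker (by
      rw [map_mul ι, map_inv ι, map_zpow ι, map_mul, map_inv, map_zpow, hk, inv_mul_cancel])
    have h3 := f.coord_commutator hT h2
    rw [f.coord_mul, f.coord_inv, f.coord_zpow, hπx, f.coord_W, add_zero, neg_eq_zero] at h3
    have h4 : ((k : ℤ) : ZMod p) = 0 := by simpa [← Int.cast_smul_eq_zsmul (ZMod p)] using congrFun h3 1
    obtain ⟨k', rfl⟩ := (ZMod.intCast_zmod_eq_zero_iff_dvd k p).1 h4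
    rw [zpow_mul, zpow_natCast, hxp, one_zpow] at hk
    exact hqW hk.symm
  have hgam : (commutator T).map ι ≤ gam (normalizerIn S T) := by
    refine Subgroup.map_le_iff_le_comap.2 ?_
    refine f.gen_comm (fun t a ha => ?_) ?_ ?_ ?_
    · rw [Subgroup.mem_comap, map_mul, map_mul, map_inv] at *
      exact (inferInstance : (gam (normalizerIn S T)).Normal).conj_mem _ ha _
    · rw [Subgroup.mem_comap, map_commutatorElement, ← commutatorElement_inv]
      exact Subgroup.inv_mem _ (Subgroup.commutator_mem_commutator hxN (Subgroup.mem_top _))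
    · rw [Subgroup.mem_comap, map_commutatorElement, ← commutatorElement_inv]
      exact Subgroup.inv_mem _ (Subgroup.commutator_mem_commutator hxN (Subgroup.mem_top _))
    · rw [← Subgroup.map_le_iff_le_comap, gam, Subgroup.map_commutator]
      exact Subgroup.commutator_mono (hD ▸ hDN) le_top
  -- modulo `N'` and `W`
  set c := QuotientGroup.mk' (commutator (normalizerIn S T)) with hc
  have hcc : ∀ a b : (normalizerIn S T), c a * c b = c b * c a := fun a b => by
    refine commutatorElement_eq_one_iff_mul_comm.1 ?_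
    rw [← map_commutatorElement]
    exact (QuotientGroup.eq_one_iff _).2
      (Subgroup.commutator_mem_commutator (Subgroup.mem_top a) (Subgroup.mem_top b))
  have hcx : c (ι x) = 1 := (QuotientGroup.eq_one_iff _).2 hxN
  have hcT : ∀ {t : T}, t ∈ commutator T → c (ι t) = 1 := fun ht =>
    (QuotientGroup.eq_one_iff _).2 (hDN ⟨_, ht, rfl⟩)
  have hgenc : ∀ y : T, ∀ i j l : ℤ, ∀ t ∈ commutator T, y = e ^ i * x ^ j * W ^ l * t →
      c (ι y) = c (ι e) ^ i * c (ι W) ^ l := by
    intro y i j l t ht hy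
    rw [hy, map_mul ι, map_mul ι, map_mul ι, map_mul, map_mul, map_mul, hcT ht, mul_one, map_zpow ι,
      map_zpow ι, map_zpow ι, map_zpow, map_zpow, map_zpow, hcx, one_zpow, mul_one]
  have hframe : Frame p (ι e) g (ι W) := by
    refine ⟨by rw [← map_pow, f.he, map_one], by rw [← map_pow, f.hW, map_one],
      by rw [← map_mul, ← map_mul, f.heW], fun y => ?_, ?_, ?_, hWnot, ?_⟩
    · obtain ⟨k, hk⟩ := exists_pow_mul hTS hNcard hg y
      obtain ⟨i, j, l, t, ht, hy⟩ := f.gen (⟨_, hk⟩ : T)
      refine ⟨i, k, l, ((ι e) ^ i * g ^ (k : ℤ) * (ι W) ^ l)⁻¹ * y, ?_, (mul_inv_cancel_left _ _).symm⟩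
      rw [← QuotientGroup.eq_one_iff, ← QuotientGroup.mk'_apply, ← hc, map_mul, map_inv, map_mul, map_mul,
        map_zpow, map_zpow, map_zpow, zpow_natCast,
        show y = g ^ k * ι ⟨_, hk⟩ from Subtype.ext (mul_inv_cancel_left ((g : Ω) ^ k) (y : Ω)).symm,
        map_mul, map_pow, hgenc _ i j l t ht hy, ← mul_assoc (c g ^ k),
        (show Commute (c g ^ k) (c (ι e) ^ i) from
          ((show Commute (c g) (c (ι e)) from hcc _ _).pow_left k).zpow_right i).eq, inv_mul_cancel]
    · have hy : ((g ^ p : (normalizerIn S T)) : Ω) ∈ T := pow_p_mem hTS hNcard g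
      set y : T := ⟨_, hy⟩ with hydef
      have hfix : nHom S T g y = y := Subtype.ext (by
        show (g : Ω) * ((g ^ p : (normalizerIn S T)) : Ω) * (g : Ω)⁻¹ = ((g ^ p : (normalizerIn S T)) : Ω)
        rw [SubgroupClass.coe_pow, ← pow_succ', pow_succ, mul_inv_cancel_right])
      have h0 : f.coord hT y 0 = 0 := by
        have h2 := congrFun (f.mat_mulVec hT (nHom S T g) y) 1
        rw [hfix] at h2
        simp [Matrix.mulVec, dotProduct, Fin.sum_univ_two, (f.mat_col hT (nHom S T g) 1).1,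
          (f.mat_col hT (nHom S T g) 1).2, hge, hgv] at h2
        exact h2
      obtain ⟨i, j, l, t, ht, hy'⟩ := f.gen y
      refine ⟨l, ((ι W) ^ l)⁻¹ * g ^ p, ?_, (mul_inv_cancel_left _ _).symm⟩
      have hi : (p : ℤ) ∣ i := by
        rw [hy', f.coord_mul, f.coord_mul, f.coord_mul, f.coord_zpow, f.coord_zpow, f.coord_zpow, f.coord_e,
          hπx, f.coord_W, f.coord_commutator hT ht, smul_zero, add_zero, add_zero] at h0
        rw [← ZMod.intCast_zmod_eq_zero_iff_dvd]
        simpa [← Int.cast_smul_eq_zsmul (ZMod p)] using h0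
      obtain ⟨i', rfl⟩ := hi
      rw [← QuotientGroup.eq_one_iff, ← QuotientGroup.mk'_apply, ← hc, map_mul, map_inv, map_zpow,
        show g ^ p = ι y from Subtype.ext rfl, hgenc y _ j l t ht hy', zpow_mul, zpow_natCast, ← map_pow,
        ← map_pow, f.he, map_one, map_one, one_zpow, one_mul, inv_mul_cancel]
    · refine hgam ((QuotientGroup.eq_one_iff _).1 ?_)
      rw [← QuotientGroup.mk'_apply, ← hq, map_commutatorElement, commutatorElement_eq_one_iff_mul_comm]
      exact hgW.symm.eq
    · exact fun hb => hqx1 (by rw [(Subgroup.eq_bot_iff_forall _).1 hb _ hxN, map_one])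
  have hcore : Core F p E (normalizerIn S T) (ι e) g (ι W) :=
    { TS := normalizerIn_le T
      ET := h1.ET.trans (le_normalizerIn hTS)
      eE := h1.eE
      WE := h1.WE
      hel := h1.hel
      cardE := h1.cardE
      frame := hframe
      cardT := by rw [hNcard, h1.cardT, hKeq, hKcard]; ring
      cent := fun l m hm => by
        obtain ⟨i, hi⟩ := exists_pow_mul hTS hNcard hg m
        have hmT : (m : Ω) ∈ T := by
          have hfixel : nHom S T m (e * W ^ l) = e * W ^ l := hιi (by
            rw [← hconj, map_mul ι, map_zpow ι, hm, mul_inv_cancel_right])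
          have hG : f.mat hT (nHom S T g) = 1 + Matrix.single 1 0 1 := by
            refine f.mat_ext hT _ ?_ ?_
            · rw [hge]; ext a; fin_cases a <;> simp [Matrix.one_apply, Matrix.single_apply]
            · rw [hgv]; ext a; fin_cases a <;> simp [Matrix.one_apply, Matrix.single_apply]
          have hmm : f.mat hT (nHom S T m) = 1 + (i : ZMod p) • Matrix.single 1 0 1 := by
            rw [show m = g ^ i * ((g ^ i)⁻¹ * m) by group, map_mul (nHom S T)]
            show f.matHom hT (_ * _) = _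
            rw [map_mul, show f.matHom hT (nHom S T ((g ^ i)⁻¹ * m)) = 1 by
              rw [nHom_of_mem hi]; exact f.mat_conj hT _, mul_one, map_pow, map_pow]
            show f.mat hT (nHom S T g) ^ i = _
            rw [hG, one_add_pow (by simp), Nat.cast_smul_eq_nsmul]
          have h2 := congrFun (f.mat_mulVec hT (nHom S T m) (e * W ^ l)) 1
          rw [hfixel, hmm, f.coord_mul, f.coord_zpow, f.coord_W, smul_zero, add_zero, f.coord_e] at h2
          simp [Matrix.mulVec, dotProduct, Fin.sum_univ_two, Matrix.one_apply, Matrix.single_apply] at h2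
          have hdiv : p ∣ i := (ZMod.natCast_eq_zero_iff i p).1 h2.symm
          obtain ⟨k, rfl⟩ := hdiv
          have h3 := T.mul_mem (T.pow_mem (pow_p_mem hTS hNcard g) k) hi
          rw [Subgroup.coe_mul, Subgroup.coe_inv, SubgroupClass.coe_pow, SubgroupClass.coe_pow, ← pow_mul,
            mul_inv_cancel_left] at h3
          exact h3
        refine h1.cent l ⟨m, hmT⟩ (hιi ?_)
        rw [map_mul ι, map_mul ι, map_zpow ι]
        exact hm
      norm := h1.norm.trans (le_normalizerIn hTS)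
      FN := h1.FN }
  -- the automorphism
  have hψe : ψ (ι e) = (ι e)⁻¹ := by rw [hψt, h.he, map_inv]
  have hψW : ψ (ι W) = ι W := by rw [hψt, h.hW]
  obtain ⟨v', α', hst⟩ := hcore.exists_adjust hp2 hNp hψ hψe hψW
    (r := hcore.frame.coord hNp (ι u) 0) (ε := -ε) (by rcases h.heps with rfl | rfl <;> simp) (by
    obtain ⟨i, j, l, t, ht, hu'⟩ := f.gen u
    have hmem : ι u * ((ι e) ^ i)⁻¹ ∈ Om (normalizerIn S T) := by
      refine (hcore.frame.mem_Om_iff hNp).2 ⟨l, ((ι W) ^ l)⁻¹ * (ι u * ((ι e) ^ i)⁻¹), ?_,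
        (mul_inv_cancel_left _ _).symm⟩
      rw [← QuotientGroup.eq_one_iff, ← QuotientGroup.mk'_apply, ← hc, map_mul, map_inv, map_mul, map_inv,
        map_zpow, map_zpow, hgenc u i j l t ht hu',
        (((show Commute (c (ι e)) (c (ι W)) from hcc _ _).zpow_left i).zpow_right l).eq, mul_inv_cancel_right,
        inv_mul_cancel]
    have h3 := (hcore.frame.coord_eq_zero hNp).2 hmem
    rw [hcore.frame.coord_mul, hcore.frame.coord_inv, hcore.frame.coord_zpow, hcore.frame.coord_e,
      ← sub_eq_add_neg, sub_eq_zero] at h3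
    rw [hψg', hcore.frame.coord_mul, hcore.frame.coord_zpow, hcore.frame.coord_v, h3,
      ← Int.cast_smul_eq_zsmul (ZMod p), ← Int.cast_smul_eq_zsmul (ZMod p)]
    ext k
    fin_cases k <;> simp)
  exact ⟨normalizerIn S T, hfinN, hNp, ι e, v', ι W, α', -ε, lt_normalizerIn hS hlt, hst⟩

end CfsgLib.SmallEssential
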