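import Cfsg.Agent.Lib.LocalEvenB.SmallEssential.Base
import Cfsg.Agent.Lib.LocalEvenB.SmallEssential.Step
import Cfsg.Agent.Lib.Fusion.MaxClassAmbient

/-!
# Elementary abelian essential subgroups of order `p ^ 3` in groups of maximal class
-/

set_option autoImplicit false

namespace CfsgLib.SmallEssential

open Cfsg Cfsg.FusionSystem CfsgLib.Fusion
open scoped commutatorElement Matrix

variable {Ω : Type*} [Group Ω] {S : Subgroup Ω} [Finite S] {F : FusionSystem S} {p : ℕ} [hp : Fact p.Prime]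
  {E : Subgroup Ω}

/-- The first step. -/
theorem BaseData.exists_St (hS : IsPGroup p S) (hF : F.IsSaturated p) (hp2 : p ≠ 2)
    (hH : F.IsEssential p E) (hcard : Nat.card E = p ^ 3) (hel : IsElementaryAbelian p E)
    {a e w y : Ω} (B : BaseData F p E a e w y) :
    ∃ (N : Subgroup Ω) (_ : Finite N) (hN : IsPGroup p N) (e' v' W' : N) (α' : MulAut N) (ε' : ℤ),
      St F p hN E e' v' W' α' ε' := by
  classical
  have hES := hH.1.1
  have hfE : Finite E := finite_le hES
  have hfinN : Finite (normalizerIn S E) := finite_le (normalizerIn_le (S := S) E)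
  have hNp : IsPGroup p (normalizerIn S E) := hS.to_le (normalizerIn_le (S := S) E)
  have hN : Nat.card (normalizerIn S E) = p * Nat.card E := by rw [B.card, hcard, ← pow_succ']
  set ι : E →* normalizerIn S E := Subgroup.inclusion (le_normalizerIn hES) with hι
  have hιi : Function.Injective ι := Subgroup.inclusion_injective _
  set yN : normalizerIn S E := ⟨y, B.hy⟩ with hyN
  set aN := ι ⟨a, B.ha⟩ with haN
  set eN := ι ⟨e, B.he⟩ with heN
  set wN := ι ⟨w, B.hw⟩ with hwN
  have hya : Commute yN aN := Subtype.ext (mul_inv_eq_iff_eq_mul.1 B.hya)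
  have hyw : Commute yN wN := Subtype.ext (mul_inv_eq_iff_eq_mul.1 B.hyw)
  have hye : yN * eN * yN⁻¹ = aN * eN := Subtype.ext B.hye
  have hEc : ∀ u u' : E, Commute (ι u) (ι u') := fun u u' => (show Commute u u' from hel.1.is_comm.comm u u').map ι
  have hdec : ∀ m : normalizerIn S E, ∃ (k : ℕ) (i j l : ℤ), m = yN ^ k * (aN ^ i * eN ^ j * wN ^ l) := by
    intro m
    obtain ⟨k, hk⟩ := exists_pow_mul hES hN (g := yN) B.hyE m
    obtain ⟨i, j, l, hu⟩ := B.gen _ hk
    refine ⟨k, i, j, l, ?_⟩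
    rw [← mul_inv_cancel_left (yN ^ k) m]
    congr 1
    exact Subtype.ext hu
  have hmove : ∀ (k : ℕ) (j : ℤ), yN ^ k * eN ^ j * (yN ^ k)⁻¹ = aN ^ ((k : ℤ) * j) * eN ^ j := by
    intro k j
    induction k with
    | zero => simp
    | succ k ih =>
      calc yN ^ (k + 1) * eN ^ j * (yN ^ (k + 1))⁻¹ = yN * (yN ^ k * eN ^ j * (yN ^ k)⁻¹) * yN⁻¹ := by
            rw [pow_succ']; group
        _ = (yN * aN ^ ((k : ℤ) * j) * yN⁻¹) * (yN * eN * yN⁻¹) ^ j := by rw [ih, conj_zpow]; group
        _ = aN ^ ((k : ℤ) * j) * (aN ^ j * eN ^ j) := by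
            rw [(hya.zpow_right _).eq, mul_inv_cancel_right, hye, (hEc _ _).mul_zpow]
        _ = aN ^ (((k + 1 : ℕ) : ℤ) * j) * eN ^ j := by rw [← mul_assoc, ← zpow_add]; congr 2; push_cast; ring
  have haz : ∀ m : normalizerIn S E, Commute m aN := fun m => by
    obtain ⟨k, i, j, l, rfl⟩ := hdec m
    exact (hya.pow_left k).mul_left ((((hEc _ _).zpow_left i).mul_left ((hEc _ _).zpow_left j)).mul_left
      ((hEc _ _).zpow_left l))
  have haP : aN ∈ commutator (normalizerIn S E) := by
    have h : aN = ⁅yN, eN⁆ := by rw [commutatorElement_def, hye, mul_inv_cancel_right]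
    rw [h]
    exact Subgroup.commutator_mem_commutator (Subgroup.mem_top _) (Subgroup.mem_top _)
  have hcle : commutator (normalizerIn S E) ≤ Subgroup.zpowers aN := by
    rw [commutator_def]
    refine comm_le_of_gens (s := {yN, aN, eN, wN}) (fun m _ => Subgroup.mem_top m) (fun m _ => ?_)
      (fun t _ x hx => ?_) ?_
    · obtain ⟨k, i, j, l, rfl⟩ := hdec m
      refine Subgroup.mul_mem _ (Subgroup.pow_mem _ (Subgroup.subset_closure (by simp)) k)
        (Subgroup.mul_mem _ (Subgroup.mul_mem _ ?_ ?_) ?_) <;>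
      exact Subgroup.zpow_mem _ (Subgroup.subset_closure
        (show _ ∈ ({yN, aN, eN, wN} : Set (normalizerIn S E)) by simp)) _
    · obtain ⟨i, rfl⟩ := Subgroup.mem_zpowers_iff.1 hx
      rw [((haz t).zpow_right i).eq, mul_inv_cancel_right]
      exact Subgroup.zpow_mem _ (Subgroup.mem_zpowers _) i
    · have h1 : ∀ u u' : normalizerIn S E, Commute u u' → ⁅u, u'⁆ ∈ Subgroup.zpowers aN := fun u u' h => by
        rw [commutatorElement_eq_one_iff_mul_comm.2 h]; exact Subgroup.one_mem _
      have h2 : ⁅yN, eN⁆ ∈ Subgroup.zpowers aN := by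
        rw [commutatorElement_def, hye, mul_inv_cancel_right]; exact Subgroup.mem_zpowers _
      have h3 : ⁅eN, yN⁆ ∈ Subgroup.zpowers aN := by
        rw [← commutatorElement_inv]; exact Subgroup.inv_mem _ h2
      intro u hu u' hu'
      simp only [Set.mem_insert_iff, Set.mem_singleton_iff] at hu hu'
      rcases hu with rfl | rfl | rfl | rfl <;> rcases hu' with rfl | rfl | rfl | rfl <;>
        first
        | exact h2
        | exact h3
        | exact h1 _ _ (Commute.refl _)
        | exact h1 _ _ hya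
        | exact h1 _ _ hya.symm
        | exact h1 _ _ hyw
        | exact h1 _ _ hyw.symm
        | exact h1 _ _ (hEc _ _)
  have hceq : commutator (normalizerIn S E) = Subgroup.zpowers aN :=
    le_antisymm hcle (Subgroup.zpowers_le.2 haP)
  have hind : ∀ i j l : ℤ, aN ^ i * eN ^ j * wN ^ l = 1 → (p : ℤ) ∣ i ∧ (p : ℤ) ∣ j ∧ (p : ℤ) ∣ l :=
    fun i j l h => B.indep i j l (by
      have h' := congrArg Subtype.val h
      simp only [Subgroup.coe_mul, SubgroupClass.coe_zpow, Subgroup.coe_one] at h'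
      exact h')
  have hpow : ∀ u : E, (ι u) ^ p = 1 := fun u => by
    rw [← map_pow, show u ^ p = 1 from Subtype.ext (hel.2 _ u.2), map_one]
  have ha1 : aN ≠ 1 := fun h => by
    have h2 := (hind 1 0 0 (by simp [h])).1
    have h3 : (p : ℤ) ≤ 1 := Int.le_of_dvd one_pos h2
    have := hp.out.two_le
    omega
  set c := QuotientGroup.mk' (commutator (normalizerIn S E)) with hc
  have hcc : ∀ u u' : normalizerIn S E, c u * c u' = c u' * c u := fun u u' => by
    refine commutatorElement_eq_one_iff_mul_comm.1 ?_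
    rw [← map_commutatorElement]
    exact (QuotientGroup.eq_one_iff _).2
      (Subgroup.commutator_mem_commutator (Subgroup.mem_top u) (Subgroup.mem_top u'))
  have hca : c aN = 1 := (QuotientGroup.eq_one_iff _).2 haP
  have hfix : ∀ (k : ℕ) (i j l : ℤ), yN ^ k * (aN ^ i * eN ^ j * wN ^ l) * (yN ^ k)⁻¹ =
      aN ^ ((k : ℤ) * j) * (aN ^ i * eN ^ j * wN ^ l) := by
    intro k i j l
    calc yN ^ k * (aN ^ i * eN ^ j * wN ^ l) * (yN ^ k)⁻¹
        = (yN ^ k * aN ^ i * (yN ^ k)⁻¹) * (yN ^ k * eN ^ j * (yN ^ k)⁻¹) *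
          (yN ^ k * wN ^ l * (yN ^ k)⁻¹) := by group
      _ = aN ^ i * (aN ^ ((k : ℤ) * j) * eN ^ j) * wN ^ l := by
        rw [((hya.pow_left k).zpow_right i).eq, mul_inv_cancel_right, hmove, ((hyw.pow_left k).zpow_right l).eq,
          mul_inv_cancel_right]
      _ = _ := by rw [← mul_assoc (aN ^ i), ← zpow_add, add_comm, zpow_add]; simp only [mul_assoc]
  have hframe : Frame p eN yN wN := by
    refine ⟨hpow _, hpow _, hEc _ _, fun m => ?_, ?_, ?_, ?_, ?_⟩
    · obtain ⟨k, i, j, l, rfl⟩ := hdec m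
      refine ⟨j, k, l, (eN ^ j * yN ^ (k : ℤ) * wN ^ l)⁻¹ * (yN ^ k * (aN ^ i * eN ^ j * wN ^ l)), ?_,
        (mul_inv_cancel_left _ _).symm⟩
      rw [← QuotientGroup.eq_one_iff, ← QuotientGroup.mk'_apply, ← hc]
      simp only [map_mul, map_inv, map_zpow, map_pow, hca, one_zpow, one_mul, zpow_natCast]
      rw [← mul_assoc (c yN ^ k), (((show Commute (c yN) (c eN) from hcc _ _).pow_left k).zpow_right j).eq,
        inv_mul_cancel]
    · have hy : ((yN ^ p : normalizerIn S E) : Ω) ∈ E := pow_p_mem hES hN yN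
      obtain ⟨i, j, l, hu⟩ := B.gen _ hy
      have hu' : yN ^ p = aN ^ i * eN ^ j * wN ^ l := Subtype.ext hu
      have h1 := hfix 1 i j l
      rw [pow_one, Nat.cast_one, one_mul, ← hu', ← pow_succ', pow_succ, mul_inv_cancel_right] at h1
      have hj : (p : ℤ) ∣ j := (hind j 0 0 (by simpa using mul_eq_right.1 h1.symm)).1
      obtain ⟨j', rfl⟩ := hj
      refine ⟨l, (wN ^ l)⁻¹ * yN ^ p, ?_, (mul_inv_cancel_left _ _).symm⟩
      rw [← QuotientGroup.eq_one_iff, ← QuotientGroup.mk'_apply, ← hc, hu', zpow_mul, zpow_natCast, hpow]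
      simp only [map_mul, map_inv, map_zpow, map_one, hca, one_zpow, one_mul, inv_mul_cancel]
    · rw [commutatorElement_eq_one_iff_mul_comm.2 hyw.symm]
      exact Subgroup.one_mem _
    · rw [hceq, Subgroup.mem_zpowers_iff]
      rintro ⟨i, hi⟩
      have h2 := (hind i 0 (-1) (by rw [zpow_zero, mul_one, hi, zpow_neg_one, mul_inv_cancel])).2.2
      have h3 : (p : ℤ) ≤ 1 := Int.le_of_dvd one_pos (dvd_neg.1 h2)
      have := hp.out.two_le
      omega
    · exact fun hb => ha1 ((Subgroup.eq_bot_iff_forall _).1 hb _ haP)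
  have hcore : Core F p E (normalizerIn S E) eN yN wN :=
    { TS := normalizerIn_le E
      ET := le_normalizerIn hES
      eE := B.he
      WE := B.hw
      hel := hel
      cardE := hcard
      frame := hframe
      cardT := by
        rw [hceq, Nat.card_zpowers, orderOf_eq_prime (hpow _) ha1, B.card, ← pow_succ]
      cent := fun l m hm => by
        obtain ⟨k, i, j, l', rfl⟩ := hdec m
        have hu : Commute (aN ^ i * eN ^ j * wN ^ l') (eN * wN ^ l) := by
          have h0 : ∀ u : E, Commute (ι u) (eN * wN ^ l) := fun u =>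
            (hEc u _).mul_right ((hEc u _).zpow_right l)
          exact (((h0 _).zpow_left i).mul_left ((h0 _).zpow_left j)).mul_left ((h0 _).zpow_left l')
        have h1 : yN ^ k * (eN * wN ^ l) * (yN ^ k)⁻¹ = eN * wN ^ l := by
          refine mul_inv_eq_iff_eq_mul.2 (mul_right_cancel (b := aN ^ i * eN ^ j * wN ^ l') ?_)
          calc _ = yN ^ k * ((eN * wN ^ l) * (aN ^ i * eN ^ j * wN ^ l')) := mul_assoc _ _ _
            _ = yN ^ k * ((aN ^ i * eN ^ j * wN ^ l') * (eN * wN ^ l)) := by rw [hu.eq]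
            _ = yN ^ k * (aN ^ i * eN ^ j * wN ^ l') * (eN * wN ^ l) := (mul_assoc _ _ _).symm
            _ = eN * wN ^ l * (yN ^ k * (aN ^ i * eN ^ j * wN ^ l')) := hm
            _ = _ := (mul_assoc _ _ _).symm
        have h2 := hfix k 0 1 l
        rw [zpow_zero, one_mul, zpow_one, h1] at h2
        have hk : (p : ℤ) ∣ (k : ℤ) := by
          have h3 := (hind ((k : ℤ) * 1) 0 0 (by simpa using mul_eq_right.1 h2.symm)).1
          simpa using h3
        obtain ⟨k', rfl⟩ := Int.natCast_dvd_natCast.1 hk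
        rw [Subgroup.coe_mul, SubgroupClass.coe_pow, pow_mul]
        refine E.mul_mem (E.pow_mem (by simpa using pow_p_mem hES hN yN) k') ?_
        rw [Subgroup.coe_mul, Subgroup.coe_mul, SubgroupClass.coe_zpow, SubgroupClass.coe_zpow,
          SubgroupClass.coe_zpow]
        exact E.mul_mem (E.mul_mem (E.zpow_mem B.ha i) (E.zpow_mem B.he j)) (E.zpow_mem B.hw l')
      norm := le_rfl
      FN := hH.2.1.2 }
  obtain ⟨δ, hδ, hδa, hδe, hδw, hδy⟩ := B.aut
  obtain ⟨ψ, hψ, hψt, r, hψy⟩ :=
    exists_extend hS hF hES hH.1 hN hδ (g := yN) (n := yN) B.hyE hδy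
  have hψe : ψ eN = eN⁻¹ := by
    rw [heN, hψt, ← map_inv]
    exact congrArg ι (Subtype.ext hδe)
  have hψw : ψ wN = wN := by
    rw [hwN, hψt]
    exact congrArg ι (Subtype.ext hδw)
  obtain ⟨i, j, l, hr⟩ := B.gen r r.2
  have hr' : ι r = aN ^ i * eN ^ j * wN ^ l := Subtype.ext hr
  obtain ⟨v', α', hst⟩ := hcore.exists_adjust hp2 hNp hψ hψe hψw (r := (j : ZMod p)) (ε := 1) (Or.inl rfl) (by
    rw [hψy, hcore.frame.coord_mul, hcore.frame.coord_v, hr', hcore.frame.coord_mul, hcore.frame.coord_mul,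
      hcore.frame.coord_zpow, hcore.frame.coord_zpow, hcore.frame.coord_zpow, hcore.frame.coord_e,
      hcore.frame.coord_W, hcore.frame.coord_commutator hNp haP, smul_zero, smul_zero, zero_add, add_zero,
      ← Int.cast_smul_eq_zsmul (ZMod p)]
    ext k
    fin_cases k <;> simp)
  exact ⟨normalizerIn S E, hfinN, hNp, eN, v', wN, α', 1, hst⟩

/-- Iterating the step. -/
theorem exists_top (hS : IsPGroup p S) (hF : F.IsSaturated p) (hp2 : p ≠ 2) (hcE : F.IsCentric E) :
    ∀ (m : ℕ) {T : Subgroup Ω} [Finite T] (hT : IsPGroup p T) {e v W : T} {α : MulAut T} {ε : ℤ},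
      St F p hT E e v W α ε → Nat.card S - Nat.card T = m → ∃ e v W : S, Core F p E S e v W := by
  intro m
  induction m using Nat.strong_induction_on with
  | h m ih =>
    intro T _ hT e v W α ε h hm
    rcases eq_or_lt_of_le h.core.TS with heq | hlt
    · subst heq
      exact ⟨e, v, W, h.core⟩
    obtain ⟨N, hfin, hN, e', v', W', α', ε', hTN, hst⟩ := h.exists_step hS hF hp2 hcE hlt
    have h1 : Nat.card T < Nat.card N := by
      by_contra hle
      exact hTN.ne (Subgroup.eq_of_le_of_card_ge hTN.le (not_lt.1 hle))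
    have h2 : Nat.card N ≤ Nat.card S := Subgroup.card_le_of_le hst.core.TS
    exact ih _ (by omega) hN hst rfl

/-- In a group of maximal class no essential subgroup of order `p ^ 3` is elementary abelian. -/
theorem not_elementary (hS : IsPGroup p S) (hF : F.IsSaturated p) (hp2 : p ≠ 2) {n : ℕ}
    (hn : Nat.card S = p ^ n) (h5 : 5 ≤ n) (hmax : Subgroup.lowerCentralSeries S (n - 2) ≠ ⊥)
    (hH : F.IsEssential p E) (hcard : Nat.card E = p ^ 3) (hel : IsElementaryAbelian p E) : False := by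
  have hC : centralizerIn S E ≤ E := hH.1.2 E (isConj_refl hH.1.1)
  obtain ⟨z, hz, hzE, a₀, ha₀, hza, hzc⟩ := exists_transvection hS hn h5 hmax hH.1.1 hcard hel hC
  obtain ⟨a, e, w, hB⟩ := exists_base hS hF hH hcard hel hC hz hzE ha₀ hza hzc
  obtain ⟨N, hfin, hN, e', v', W', α', ε', hst⟩ := hB.exists_St hS hF hp2 hH hcard hel
  obtain ⟨e'', v'', W'', hcore⟩ := exists_top hS hF hp2 hH.1 _ hN hst rfl
  have D := maxClassData hS hn (by omega) hmax
  have h := hcore.cardT
  have hc : (⊤ : Subgroup S).lowerCentralSeries 1 = commutator S := by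
    rw [Subgroup.lowerCentralSeries_succ, Subgroup.lowerCentralSeries_zero, commutator_def]
  rw [← hc, D.hser 1 le_rfl (by omega), hn, ← pow_add] at h
  have := Nat.pow_right_injective hp.out.two_le h
  omega

end CfsgLib.SmallEssential
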