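import Cfsg.Agent.Lib.Fusion.MaxClassAmbient
import Cfsg.Agent.Lib.Fusion.Alperin

/-!
# A transvection in `Aut_S(E)` for an abelian subgroup of order `p ^ 3` of a group of maximal class
-/

set_option autoImplicit false

namespace CfsgLib.SmallEssential

open Cfsg Cfsg.FusionSystem CfsgLib.Fusion
open scoped commutatorElement

variable {Ω : Type*} [Group Ω] {S : Subgroup Ω} {p : ℕ}

/-- An element of `p`-power order inverting nothing in a group of order `p`. -/
theorem conj_eq_of_mem_zpowers [hp : Fact p.Prime] {g a : Ω} (ha : orderOf a = p) {k : ℕ}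
    (hk : g ^ p ^ k = 1) (h : g * a * g⁻¹ ∈ Subgroup.zpowers a) : g * a * g⁻¹ = a := by
  obtain ⟨c, hc⟩ := Subgroup.mem_zpowers_iff.1 h
  have hpow : ∀ m : ℕ, g ^ m * a * (g ^ m)⁻¹ = a ^ (c ^ m) := by
    intro m
    induction m with
    | zero => simp
    | succ m ih =>
      calc g ^ (m + 1) * a * (g ^ (m + 1))⁻¹ = g * (g ^ m * a * (g ^ m)⁻¹) * g⁻¹ := by
            rw [pow_succ']; group
        _ = (g * a * g⁻¹) ^ (c ^ m) := by rw [ih, conj_zpow]
        _ = a ^ (c ^ (m + 1)) := by rw [← hc, ← zpow_mul, pow_succ']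
  have h1 := hpow (p ^ k)
  rw [hk, one_mul, inv_one, mul_one] at h1
  have h2 : ((c ^ p ^ k : ℤ) : ZMod p) = ((1 : ℤ) : ZMod p) := by
    rw [ZMod.intCast_eq_intCast_iff]
    have h3 : a ^ (c ^ p ^ k) = a ^ (1 : ℤ) := by rw [zpow_one]; exact h1.symm
    have h4 := zpow_eq_zpow_iff_modEq.1 h3
    rwa [ha] at h4
  rw [Int.cast_pow, ZMod.pow_card_pow] at h2
  rw [← hc]
  calc a ^ c = a ^ (1 : ℤ) := zpow_eq_zpow_iff_modEq.2 (by
        rw [ha, ← ZMod.intCast_eq_intCast_iff]; exact h2)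
    _ = a := zpow_one a

/-- Existence of a transvection induced by `S`. -/
theorem exists_transvection [hp : Fact p.Prime] [Finite S] (hS : IsPGroup p S) {n : ℕ}
    (hn : Nat.card S = p ^ n) (h5 : 5 ≤ n) (hmax : Subgroup.lowerCentralSeries S (n - 2) ≠ ⊥)
    {E : Subgroup Ω} (hES : E ≤ S) (hcard : Nat.card E = p ^ 3) (hel : IsElementaryAbelian p E)
    (hC : centralizerIn S E ≤ E) :
    ∃ z ∈ normalizerIn S E, z ∉ E ∧ ∃ a ∈ E, z * a * z⁻¹ = a ∧
      ∀ x ∈ E, ⁅z, x⁆ ∈ Subgroup.zpowers a := by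
  have hp' := hp.out
  have D := maxClassData hS hn (by omega) hmax
  have := finite_le hES
  have hEc : ∀ x ∈ E, ∀ y ∈ E, x * y = y * x := fun x hx y hy =>
    congrArg Subtype.val (hel.1.is_comm.comm (⟨x, hx⟩ : E) ⟨y, hy⟩)
  have hcZ := maxClass_card_center D
  set Zs := Subgroup.center S with hZs
  haveI : IsCyclic Zs := isCyclic_of_prime_card hcZ
  obtain ⟨c, hc⟩ := IsCyclic.exists_generator (α := Zs)
  have hZpow : ∀ x : S, x ∈ Zs → (x : Ω) ∈ Subgroup.zpowers ((c : S) : Ω) := fun x hx => by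
    obtain ⟨i, hi⟩ := Subgroup.mem_zpowers_iff.1 (hc ⟨x, hx⟩)
    exact Subgroup.mem_zpowers_iff.2 ⟨i, by
      simpa using congrArg (fun t : Zs => ((t : S) : Ω)) hi⟩
  have hcE : ((c : S) : Ω) ∈ E := hC (mem_centralizerIn.2 ⟨(c : S).2, fun x hx =>
    congrArg Subtype.val (Subgroup.mem_center_iff.1 c.2 ⟨x, hES hx⟩)⟩)
  -- an element of the second centre
  have hZ2 := D.hser (n - 3) (by omega) (by omega)
  have hne : ¬ ((⊤ : Subgroup S).lowerCentralSeries (n - 3) ≤ Zs) := fun h => by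
    have := Subgroup.card_le_of_le h
    rw [hZ2, hcZ, show n - 1 - (n - 3) = 2 by omega] at this
    have := Nat.pow_lt_pow_right hp'.one_lt (show 1 < 2 by omega)
    rw [pow_one] at this
    omega
  obtain ⟨z2, hz2, hz2Z⟩ := SetLike.not_le_iff_exists.1 hne
  have hcomm : ∀ g : S, ⁅g, z2⁆ ∈ Zs := fun g => by
    rw [hZs, maxClass_center_eq D, show n - 2 = n - 3 + 1 by omega, Subgroup.lowerCentralSeries_succ,
      ← commutatorElement_inv]
    exact inv_mem (Subgroup.commutator_mem_commutator hz2 (Subgroup.mem_top g))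
  by_cases hz2E : (z2 : Ω) ∈ E
  swap
  · refine ⟨z2, mem_normalizerIn.2 ⟨z2.2, ?_⟩, hz2E, _, hcE, ?_, ?_⟩
    · have hconj : ∀ g : S, ((g : Ω) = z2 ∨ (g : Ω) = (z2 : Ω)⁻¹) → ∀ x ∈ E, (g : Ω) * x * (g : Ω)⁻¹ ∈ E := by
        rintro g hg x hx
        have hgx : ⁅g, (⟨x, hES hx⟩ : S)⁆ ∈ Zs := by
          rcases hg with h | h
          · rw [show g = z2 from Subtype.ext h, ← commutatorElement_inv]
            exact inv_mem (hcomm _)
          · rw [show g = z2⁻¹ from Subtype.ext h,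
              show ⁅z2⁻¹, (⟨x, hES hx⟩ : S)⁆ = z2⁻¹ * ⁅(⟨x, hES hx⟩ : S), z2⁆ * z2 by
                simp only [commutatorElement_def]; group]
            simpa using (inferInstance : Zs.Normal).conj_mem _ (hcomm ⟨x, hES hx⟩) z2⁻¹
        rw [show (g : Ω) * x * (g : Ω)⁻¹ = ((⁅g, (⟨x, hES hx⟩ : S)⁆ : S) : Ω) * x by
          simp [commutatorElement_def, mul_assoc]]
        exact E.mul_mem ((Subgroup.zpowers_le.2 hcE) (hZpow _ hgx)) hx
      refine Subgroup.mem_normalizer_iff.2 fun x => ⟨hconj z2 (Or.inl rfl) x, fun hx => ?_⟩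
      simpa [mul_assoc] using hconj z2⁻¹ (Or.inr (by simp)) _ hx
    · rw [mul_inv_eq_iff_eq_mul]
      exact congrArg Subtype.val (Subgroup.mem_center_iff.1 c.2 z2)
    · intro x hx
      have h := hZpow _ (inv_mem (hcomm ⟨x, hES hx⟩))
      rw [commutatorElement_inv] at h
      simpa [commutatorElement_def] using h
  -- the centralizer of `z2`
  let f : S →* Zs :=
    { toFun := fun g => ⟨⁅g, z2⁆, hcomm g⟩
      map_one' := Subtype.ext (commutatorElement_one_left z2)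
      map_mul' := fun g h => Subtype.ext (by
        show ⁅g * h, z2⁆ = ⁅g, z2⁆ * ⁅h, z2⁆
        rw [show ⁅g * h, z2⁆ = g * ⁅h, z2⁆ * g⁻¹ * ⁅g, z2⁆ by simp only [commutatorElement_def]; group,
          Subgroup.mem_center_iff.1 (hcomm h) g, mul_inv_cancel_right]
        exact (Subgroup.mem_center_iff.1 (hcomm h) _).symm) }
  set C := f.ker.map S.subtype with hCdef
  have hmemC : ∀ g : Ω, g ∈ C ↔ g ∈ S ∧ g * z2 = z2 * g := by
    intro g
    constructor
    · rintro ⟨g, hg, rfl⟩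
      exact ⟨g.2, congrArg Subtype.val (commutatorElement_eq_one_iff_mul_comm.1
        (congrArg Subtype.val hg : ⁅g, z2⁆ = 1))⟩
    · rintro ⟨hg, hgc⟩
      exact ⟨⟨g, hg⟩, Subtype.ext (commutatorElement_eq_one_iff_mul_comm.2 (Subtype.ext hgc)), rfl⟩
  have hEC : E ≤ C := fun x hx => (hmemC x).2 ⟨hES hx, hEc x hx _ hz2E⟩
  have hCS : C ≤ S := Subgroup.map_subtype_le _
  have hlt : E < C := lt_of_le_of_ne hEC fun h => by
    have h1 := f.ker.card_mul_index
    rw [Subgroup.index_ker, hn] at h1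
    have h2 : Nat.card f.range ≤ p := hcZ ▸ Subgroup.card_le_card_group f.range
    have h3 : Nat.card f.ker = p ^ 3 := by
      rw [← hcard, h, hCdef, Subgroup.card_map_of_injective S.subtype_injective]
    rw [h3] at h1
    have h4 : p ^ n ≤ p ^ 4 := by rw [← h1, pow_succ p 3]; exact Nat.mul_le_mul_left _ h2
    have := (Nat.pow_le_pow_iff_right hp'.one_lt).1 h4
    omega
  have := finite_le hCS
  obtain ⟨g, hg, hgE⟩ := exists_mem_normalizerIn_not_mem (hS.to_le hCS) hlt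
  obtain ⟨hgC, hgN⟩ := hg
  obtain ⟨hgS, hgz⟩ := (hmemC g).1 hgC
  -- the kernel
  let φ : E →* E :=
    { toFun := fun x => ⟨⁅g, (x : Ω)⁆, E.mul_mem (conj_mem_of_mem_normalizer hgN x.2) (E.inv_mem x.2)⟩
      map_one' := Subtype.ext (commutatorElement_one_right g)
      map_mul' := fun x y => Subtype.ext (by
        show ⁅g, (x : Ω) * y⁆ = ⁅g, (x : Ω)⁆ * ⁅g, (y : Ω)⁆
        have hy : ⁅g, (y : Ω)⁆ ∈ E :=
          E.mul_mem (conj_mem_of_mem_normalizer hgN y.2) (E.inv_mem y.2)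
        rw [show ⁅g, (x : Ω) * y⁆ = ⁅g, (x : Ω)⁆ * ((x : Ω) * ⁅g, (y : Ω)⁆ * (x : Ω)⁻¹) by
          simp only [commutatorElement_def]; group, hEc x x.2 _ hy, mul_inv_cancel_right]) }
  have hfix : (c : S) ∈ Zs ∧ (⟨_, hcE⟩ : E) ∈ φ.ker ∧ (⟨_, hz2E⟩ : E) ∈ φ.ker :=
    ⟨c.2, Subtype.ext (commutatorElement_eq_one_iff_mul_comm.2
      (congrArg Subtype.val (Subgroup.mem_center_iff.1 c.2 ⟨g, hgS⟩))),
      Subtype.ext (commutatorElement_eq_one_iff_mul_comm.2 hgz)⟩
  have hEp : IsPGroup p E := IsPGroup.of_card hcard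
  obtain ⟨i, hi⟩ := (hEp.to_subgroup φ.range).exists_card_eq
  obtain ⟨j, hj⟩ := (hEp.to_subgroup φ.ker).exists_card_eq
  have hij : j + i = 3 := by
    have h := φ.ker.card_mul_index
    rw [Subgroup.index_ker, hcard, hi, hj, ← pow_add] at h
    exact Nat.pow_right_injective hp'.two_le h
  have hj2 : 2 ≤ j := by
    by_contra hlt2
    set c' : E := ⟨_, hcE⟩ with hc'
    have hc1 : c' ≠ 1 := fun h => by
      have : c = 1 := Subtype.ext (Subtype.ext (congrArg Subtype.val h :))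
      have hb : Zs = ⊥ := (Subgroup.eq_bot_iff_forall _).2 fun x hx => by
        obtain ⟨i, hi⟩ := Subgroup.mem_zpowers_iff.1 (hc ⟨x, hx⟩)
        rw [this, one_zpow] at hi
        exact congrArg Subtype.val hi.symm
      rw [hb, Subgroup.card_bot] at hcZ
      exact hp'.one_lt.ne hcZ
    have ho : orderOf c' = p := orderOf_eq_prime (Subtype.ext (hel.2 _ hcE)) hc1
    have heq : Subgroup.zpowers c' = φ.ker := by
      refine Subgroup.eq_of_le_of_card_ge (Subgroup.zpowers_le.2 hfix.2.1) ?_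
      rw [Nat.card_zpowers, ho, hj]
      calc p ^ j ≤ p ^ 1 := Nat.pow_le_pow_right hp'.pos (by omega)
        _ = p := pow_one p
    obtain ⟨m, hm⟩ := Subgroup.mem_zpowers_iff.1 (heq.ge hfix.2.2)
    have hm' : z2 = (c : S) ^ m := Subtype.ext (by
      simpa [hc'] using (congrArg Subtype.val hm).symm)
    exact hz2Z (hm' ▸ Subgroup.zpow_mem _ c.2 m)
  have hr1 : φ.range ≠ ⊥ := by
    intro hb
    refine hgE (hC (mem_centralizerIn.2 ⟨hgS, fun x hx => ?_⟩))
    have h : φ ⟨x, hx⟩ = 1 := Subgroup.mem_bot.1 (hb ▸ ⟨⟨x, hx⟩, rfl⟩)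
    exact (commutatorElement_eq_one_iff_mul_comm.1 (congrArg Subtype.val h)).symm
  have hi1 : i = 1 := by
    rcases Nat.eq_zero_or_pos i with h0 | h0
    · exact absurd (Subgroup.card_eq_one.1 (by rw [hi, h0, pow_zero])) hr1
    · omega
  obtain ⟨a, ha, ha1⟩ := Subgroup.ne_bot_iff_exists_ne_one.1 hr1 |>.elim fun a h =>
    (⟨(a : E), a.2, fun e => h (Subtype.ext e)⟩ : ∃ a : E, a ∈ φ.range ∧ a ≠ 1)
  have hza : Subgroup.zpowers a = φ.range := by
    refine Subgroup.eq_of_le_of_card_ge (Subgroup.zpowers_le.2 ha) ?_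
    rw [Nat.card_zpowers, orderOf_eq_prime (Subtype.ext (hel.2 _ a.2)) ha1, hi, hi1, pow_one]
  have hmem : ∀ x ∈ E, ⁅g, x⁆ ∈ Subgroup.zpowers (a : Ω) := fun x hx => by
    obtain ⟨m, hm⟩ := Subgroup.mem_zpowers_iff.1 (hza.ge ⟨⟨x, hx⟩, rfl⟩)
    exact Subgroup.mem_zpowers_iff.2 ⟨m, by simpa [φ] using congrArg Subtype.val hm⟩
  refine ⟨g, ⟨hgS, hgN⟩, hgE, a, a.2, ?_, hmem⟩
  obtain ⟨k, hk⟩ := hS ⟨g, hgS⟩
  refine conj_eq_of_mem_zpowers (orderOf_eq_prime (hel.2 _ a.2) fun h => ha1 (Subtype.ext h))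
    (k := k) (congrArg Subtype.val hk) ?_
  have := mul_mem (hmem _ a.2) (Subgroup.mem_zpowers (a : Ω))
  rwa [commutatorElement_def, inv_mul_cancel_right] at this

end CfsgLib.SmallEssential
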