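import Cfsg.Agent.Lib.LocalEvenB.SmallEssential.Linear
import Cfsg.Agent.Lib.LocalEvenB.SmallEssential.Transvection
import Cfsg.Agent.Lib.Fusion.Saturated
import Mathlib.LinearAlgebra.Matrix.ToLin

/-!
# The automizer of an essential elementary abelian subgroup of order `p ^ 3` with a transvection
-/

set_option autoImplicit false

namespace CfsgLib.SmallEssential

open Cfsg Cfsg.FusionSystem CfsgLib.Fusion
open scoped commutatorElement

variable {Ω : Type*} [Group Ω] {S : Subgroup Ω} {F : FusionSystem S} {p : ℕ}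

/-- A subgroup containing the centralizers of its elements of order `p`, above the Sylow `Aut_S(E)`,
and a conjugate of `z` outside it. -/
theorem exists_embedded [hp : Fact p.Prime] [Finite S] (hS : IsPGroup p S) (hF : F.IsSaturated p)
    {E : Subgroup Ω} (hH : F.IsEssential p E) (hel : IsElementaryAbelian p E) (z : F.autGroup E)
    (hz : (z : MulAut E) ∈ autInducedBy S E) (hzo : orderOf z = p) :
    ∃ M : Subgroup (F.autGroup E), HasCents p M ∧ z ∈ M ∧ ∃ g : F.autGroup E, g * z * g⁻¹ ∉ M ∧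
      g⁻¹ * z * g ∉ M := by
  have hES := hH.1.1
  have := finite_mulAut_of_le (S := S) hES
  obtain ⟨hN, Y, hY⟩ := hH.2.2
  haveI := hN
  obtain ⟨hYtop, hYp, hYc⟩ := LocalEven.stronglyPEmbedded_iff.1 hY
  have hInn : (Inn E).subgroupOf (F.autGroup E) = ⊥ := by
    refine (Subgroup.eq_bot_iff_forall _).2 fun σ hσ => ?_
    obtain ⟨u, hu⟩ := (hσ : (σ : MulAut E) ∈ Inn E)
    refine Subtype.ext (MulEquiv.ext fun x => ?_)
    show (σ : MulAut E) x = x
    rw [show (σ : MulAut E) = MulAut.conj u from hu.symm, MulAut.conj_apply, mul_inv_eq_iff_eq_mul]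
    exact hel.1.is_comm.comm u x
  set π := QuotientGroup.mk' ((Inn E).subgroupOf (F.autGroup E)) with hπ
  have hπi : Function.Injective π := by
    rw [← MonoidHom.ker_eq_bot_iff, hπ, QuotientGroup.ker_mk', hInn]
  have hπs : Function.Surjective π := QuotientGroup.mk'_surjective _
  have hzo' : orderOf (π z) = p := by rw [orderOf_injective π hπi, hzo]
  obtain ⟨P₀, hP₀, hP₀1⟩ := LocalEven.exists_sylow_le hYc hYp
  obtain ⟨P, hP⟩ := (LocalEven.isPGroup_zpowers hzo').exists_le_sylow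
  obtain ⟨t, ht⟩ := LocalEven.sylow_conj P₀ P
  have htz : t⁻¹ * π z * t ∈ Y := by
    have h : π z ∈ (P₀ : Subgroup _).map (MulAut.conj t).toMonoidHom := ht ▸ hP (Subgroup.mem_zpowers _)
    have h2 := LocalEven.mem_conj.1 h
    exact hP₀ (by simpa using h2)
  set Y' : Subgroup (F.autGroup E ⧸ (Inn E).subgroupOf (F.autGroup E)) :=
    Y.comap (MulAut.conj t⁻¹).toMonoidHom with hY'
  have hmemY : ∀ v, v ∈ Y' ↔ t⁻¹ * v * t ∈ Y := fun v => by simp [hY']
  set M := Y'.comap π with hM
  have hzM : z ∈ M := (hmemY _).2 htz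
  obtain ⟨u, hu⟩ : ∃ u, u ∉ Y := by
    by_contra h
    push Not at h
    exact hYtop (eq_top_iff.2 fun x _ => h x)
  obtain ⟨g, hg⟩ := hπs (t * u * t⁻¹)
  have ho : orderOf (t⁻¹ * π z * t) = p := by
    rw [show t⁻¹ * π z * t = MulAut.conj t⁻¹ (π z) by simp,
      MulEquiv.orderOf_eq (MulAut.conj t⁻¹), hzo']
  refine ⟨M, ?_, hzM, g, fun h => hu ?_, fun h => hu ?_⟩
  · intro x hx hx1 hxp c hc
    have hxo : orderOf x = p := orderOf_eq_prime hxp hx1
    have hc' : c * x = x * c := Subgroup.mem_centralizer_singleton_iff.1 hc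
    refine (hmemY _).2 (LocalEven.mem_of_conj_mem hYc (x := t⁻¹ * π x * t) ?_ ((hmemY _).1 hx) ?_)
    · rw [show t⁻¹ * π x * t = MulAut.conj t⁻¹ (π x) by simp,
        MulEquiv.orderOf_eq (MulAut.conj t⁻¹),
        orderOf_injective π hπi, hxo]
    · have he : π c * π x = π x * π c := by rw [← map_mul, ← map_mul, hc']
      convert (hmemY _).1 hx using 1
      calc t⁻¹ * π c * t * (t⁻¹ * π x * t) * (t⁻¹ * π c * t)⁻¹
          = t⁻¹ * (π c * π x) * (π c)⁻¹ * t := by group
        _ = t⁻¹ * (π x * π c) * (π c)⁻¹ * t := by rw [he]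
        _ = t⁻¹ * π x * t := by group
  · refine LocalEven.mem_of_conj_mem hYc ho htz ?_
    have h' := (hmemY _).1 h
    rw [map_mul, map_mul, map_inv, hg] at h'
    convert h' using 1
    group
  · have h' := (hmemY _).1 h
    rw [map_mul, map_mul, map_inv, hg] at h'
    refine inv_mem_iff.1 (LocalEven.mem_of_conj_mem hYc ho htz (g := u⁻¹) ?_)
    convert h' using 1
    group

/-- The configuration inside `N_S(E)`. -/
structure BaseData (F : FusionSystem S) (p : ℕ) (E : Subgroup Ω) (a e w y : Ω) : Prop where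
  ha : a ∈ E
  he : e ∈ E
  hw : w ∈ E
  hy : y ∈ normalizerIn S E
  hyE : y ∉ E
  hya : y * a * y⁻¹ = a
  hyw : y * w * y⁻¹ = w
  hye : y * e * y⁻¹ = a * e
  gen : ∀ x ∈ E, ∃ i j k : ℤ, x = a ^ i * e ^ j * w ^ k
  indep : ∀ i j k : ℤ, a ^ i * e ^ j * w ^ k = 1 → (p : ℤ) ∣ i ∧ (p : ℤ) ∣ j ∧ (p : ℤ) ∣ k
  norm : normalizerIn S E ≤ E ⊔ Subgroup.zpowers y
  card : Nat.card (normalizerIn S E) = p ^ 4
  aut : ∃ δ ∈ F.autGroup E, (δ ⟨a, ha⟩ : Ω) = a⁻¹ ∧ (δ ⟨e, he⟩ : Ω) = e⁻¹ ∧ (δ ⟨w, hw⟩ : Ω) = w ∧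
    δ * conjAut ⟨y, hy⟩ = conjAut ⟨y, hy⟩ * δ

/-- The linear action of the automorphisms of an elementary abelian group. -/
noncomputable def autEnd (p : ℕ) (V : Type*) [CommGroup V] [Module (ZMod p) (Additive V)] :
    MulAut V →* Module.End (ZMod p) (Additive V) where
  toFun σ := (MonoidHom.toAdditive σ.toMonoidHom).toZModLinearMap p
  map_one' := LinearMap.ext fun v => by simp
  map_mul' σ τ := LinearMap.ext fun v => by simp

theorem autEnd_apply (p : ℕ) (V : Type*) [CommGroup V] [Module (ZMod p) (Additive V)] (σ : MulAut V) (x : V) :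
    autEnd p V σ (Additive.ofMul x) = Additive.ofMul (σ x) := by simp [autEnd]

set_option maxHeartbeats 1000000 in
/-- The frame of an abelian group of order `p ^ 3` given by a transvection. -/
theorem exists_frame [hp : Fact p.Prime] {V : Type*} [CommGroup V] [Finite V] [Module (ZMod p) (Additive V)]
    (hcard : Nat.card V = p ^ 3) {X : Type*} [Group X] [Finite X] (ι : X →* MulAut V) (hι : Function.Injective ι)
    {M : Subgroup X} (hM : HasCents p M) {z g : X} (hzM : z ∈ M) (hg : g * z * g⁻¹ ∉ M) (hg' : g⁻¹ * z * g ∉ M)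
    {a₀ : V} (hfix : ι z a₀ = a₀) (himg : ∀ v, ι z v * v⁻¹ ∈ Subgroup.zpowers a₀) (hz1 : z ≠ 1)
    {U : Subgroup X} (hUp : IsPGroup p U) (hUz : z ∈ U) :
    ∃ (a e w : V) (d : X), ι z a = a ∧ ι z w = w ∧ ι z e = a * e ∧
      (∀ x : V, ∃ i j k : ℤ, x = a ^ i * e ^ j * w ^ k) ∧
      (∀ i j k : ℤ, a ^ i * e ^ j * w ^ k = 1 → (p : ℤ) ∣ i ∧ (p : ℤ) ∣ j ∧ (p : ℤ) ∣ k) ∧
      U ≤ Subgroup.zpowers z ∧ ι d a = a⁻¹ ∧ ι d e = e⁻¹ ∧ ι d w = w ∧ d * z = z * d := by
  classical
  have hp' := hp.out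
  haveI : NeZero p := ⟨hp'.ne_zero⟩
  let L : X →* Module.End (ZMod p) (Additive V) := (autEnd p V).comp ι
  have hLapp : ∀ (σ : X) (x : V), L σ (Additive.ofMul x) = Additive.ofMul (ι σ x) :=
    fun σ x => autEnd_apply p V (ι σ) x
  have hLinj : Function.Injective L := fun σ τ h => hι (MulEquiv.ext fun x =>
    Additive.ofMul.injective (by rw [← hLapp, ← hLapp, h]))
  have hVc : Nat.card (Additive V) = p ^ 3 := by rw [← hcard]; rfl
  haveI : Nontrivial (Additive V) := Finite.one_lt_card_iff_nontrivial.1 (by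
    rw [hVc]; exact Nat.one_lt_pow (by omega) hp'.one_lt)
  haveI : CharP (Module.End (ZMod p) (Additive V)) p :=
    charP_of_injective_algebraMap (algebraMap (ZMod p) (Module.End (ZMod p) (Additive V))).injective p
  set A : Module.End (ZMod p) (Additive V) := L z - 1 with hAdef
  have hLz : L z = 1 + A := by rw [hAdef]; abel
  set v₀ : Additive V := Additive.ofMul a₀ with hv₀
  have hAv : ∀ v : Additive V, ∃ c : ZMod p, A v = c • v₀ := by
    intro v
    obtain ⟨x, rfl⟩ := Additive.ofMul.surjective v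
    obtain ⟨i, hi⟩ := Subgroup.mem_zpowers_iff.1 (himg x)
    refine ⟨(i : ZMod p), ?_⟩
    rw [Int.cast_smul_eq_zsmul, hAdef, LinearMap.sub_apply, Module.End.one_apply, hLapp, hv₀,
      ← ofMul_zpow, ← ofMul_div, hi, div_eq_mul_inv]
  have hA0 : A v₀ = 0 := by
    rw [hAdef, LinearMap.sub_apply, Module.End.one_apply, sub_eq_zero, hv₀, hLapp, hfix]
  have hA2 : A * A = 0 := LinearMap.ext fun v => by
    obtain ⟨c, hc⟩ := hAv v
    rw [Module.End.mul_apply, hc, map_smul, hA0, smul_zero, LinearMap.zero_apply]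
  have hzp : z ^ p = 1 := pow_eq_one_of_sq hLinj hA2 hLz
  set M' : Subgroup X := M.comap (MulAut.conj g⁻¹).toMonoidHom with hM'def
  have hM'mem : ∀ x, x ∈ M' ↔ g⁻¹ * x * g ∈ M := fun x => by simp [hM'def]
  have hzM' : z ∉ M' := fun h => hg' ((hM'mem z).1 h)
  have hM'c : HasCents p M' := by
    intro x hx hx1 hxp c hc
    refine (hM'mem c).2 (hM (g⁻¹ * x * g) ((hM'mem x).1 hx) ?_ ?_
      (Subgroup.mem_centralizer_singleton_iff.2 ?_))
    · intro h
      exact hx1 (by simpa [mul_assoc] using congrArg (fun t => g * t * g⁻¹) h)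
    · have : (MulAut.conj g⁻¹) x ^ p = 1 := by rw [← map_pow, hxp, map_one]
      simpa using this
    · have he := Subgroup.mem_centralizer_singleton_iff.1 hc
      calc g⁻¹ * c * g * (g⁻¹ * x * g) = g⁻¹ * (c * x) * g := by group
        _ = g⁻¹ * (x * c) * g := by rw [he]
        _ = _ := by group
  set z₁ := g * z * g⁻¹ with hz₁def
  have hz₁M' : z₁ ∈ M' := by
    refine (hM'mem _).2 ?_
    rw [show g⁻¹ * z₁ * g = z by rw [hz₁def]; group]
    exact hzM
  set B : Module.End (ZMod p) (Additive V) := L g * A * L g⁻¹ with hBdef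
  have hLz₁ : L z₁ = 1 + B := by
    rw [hz₁def, map_mul, map_mul, hLz, mul_add, add_mul, mul_one, ← map_mul, mul_inv_cancel, map_one]
  have hLgi : L g⁻¹ * L g = 1 := by rw [← map_mul, inv_mul_cancel, map_one]
  have hB2 : B * B = 0 := by
    calc B * B = L g * A * (L g⁻¹ * L g) * A * L g⁻¹ := by simp only [hBdef, mul_assoc]
      _ = L g * (A * A) * L g⁻¹ := by rw [hLgi]; simp only [mul_one, mul_assoc]
      _ = 0 := by rw [hA2, mul_zero, zero_mul]
  set v₁ : (Additive V) := L g v₀ with hv₁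
  have hBv : ∀ v : (Additive V), ∃ c : ZMod p, B v = c • v₁ := fun v => by
    obtain ⟨c, hc⟩ := hAv (L g⁻¹ v)
    exact ⟨c, by rw [hBdef, Module.End.mul_apply, Module.End.mul_apply, hc, map_smul]⟩
  have hz₁1 : z₁ ≠ 1 := fun h => hz1 (conj_eq_one_iff.1 h)
  have hz₁p : z₁ ^ p = 1 := pow_eq_one_of_sq hLinj hB2 hLz₁
  have hboth : A * B = 0 → B * A = 0 → False := by
    intro h1 h2
    refine hg (mem_of_common hM hzM hz1 hzp hz1 hzp rfl (?_ : z * z₁ = z₁ * z))
    refine hLinj ?_
    rw [map_mul L z z₁, map_mul L z₁ z, hLz, hLz₁, add_mul, mul_add, mul_add, add_mul, mul_add, mul_add, h1, h2]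
    simp only [one_mul, mul_one, add_zero]
    abel
  have hAB : A * B ≠ 0 := fun h => by
    rcases eq_or_ne (B * A) 0 with h' | h'
    · exact hboth h h'
    obtain ⟨d, -, hd1, hdp, hdz, hdz₁⟩ := one_sided hLinj hLz hLz₁ hA2 hB2 h h'
    exact hg (mem_of_common hM hzM hz1 hzp hd1 hdp hdz hdz₁)
  have hBA : B * A ≠ 0 := fun h => by
    obtain ⟨d, -, hd1, hdp, hdz₁, hdz⟩ := one_sided hLinj hLz₁ hLz hB2 hA2 h hAB
    exact hg (mem_of_common hM hzM hz1 hzp hd1 hdp hdz hdz₁)
  obtain ⟨lam, hlam⟩ := hAv v₁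
  obtain ⟨mu, hmu⟩ := hBv v₀
  have hlam0 : lam ≠ 0 := fun h => hAB (LinearMap.ext fun v => by
    obtain ⟨c, hc⟩ := hBv v
    rw [Module.End.mul_apply, hc, map_smul, hlam, h, zero_smul, smul_zero, LinearMap.zero_apply])
  have hmu0 : mu ≠ 0 := fun h => hBA (LinearMap.ext fun v => by
    obtain ⟨c, hc⟩ := hAv v
    rw [Module.End.mul_apply, hc, map_smul, hmu, h, zero_smul, smul_zero, LinearMap.zero_apply])
  set k := (lam * mu)⁻¹ with hk
  set z' := z₁ ^ k.val with hz'def
  set B' : Module.End (ZMod p) (Additive V) := k • B with hB'def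
  have hLz' : L z' = 1 + B' := by
    rw [hz'def, map_pow, hLz₁, one_add_pow hB2, hB'def, ← Nat.cast_smul_eq_nsmul (ZMod p),
      ZMod.natCast_zmod_val]
  have hk0 : k ≠ 0 := inv_ne_zero (mul_ne_zero hlam0 hmu0)
  have hz'M : z' ∉ M := by
    intro h
    refine hg ?_
    have hmod : z₁ ^ (k.val * (lam * mu).val) = z₁ ^ 1 := by
      rw [pow_eq_pow_iff_modEq, orderOf_eq_prime hz₁p hz₁1, ← ZMod.natCast_eq_natCast_iff,
        Nat.cast_mul, ZMod.natCast_zmod_val, ZMod.natCast_zmod_val, Nat.cast_one, hk,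
        inv_mul_cancel₀ (mul_ne_zero hlam0 hmu0)]
    have := pow_mem h (lam * mu).val
    rw [hz'def, ← pow_mul, hmod, pow_one] at this
    exact this
  -- the basis
  set u0 : (Additive V) := lam • v₀ with hu0
  have hAu0 : A u0 = 0 := by rw [hu0, map_smul, hA0, smul_zero]
  have hAu1 : A v₁ = u0 := hlam
  have hBv₁ : B v₁ = 0 := by
    rw [hv₁, hBdef, Module.End.mul_apply, Module.End.mul_apply,
      show L g⁻¹ (L g v₀) = v₀ by rw [← Module.End.mul_apply, hLgi, Module.End.one_apply], hA0, map_zero]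
  have hB'u0 : B' u0 = v₁ := by
    rw [hB'def, LinearMap.smul_apply, hu0, map_smul, hmu, smul_smul, smul_smul, hk,
      mul_assoc, inv_mul_cancel₀ (mul_ne_zero hlam0 hmu0), one_smul]
  have hB'v₁ : B' v₁ = 0 := by rw [hB'def, LinearMap.smul_apply, hBv₁, smul_zero]
  obtain ⟨u2, hAu2, hB'u2, hu2⟩ : ∃ u : (Additive V), A u = 0 ∧ B' u = 0 ∧ u ≠ 0 := by
    by_contra hno
    push Not at hno
    choose fA hfA using hAv
    choose fB hfB using hBv
    have hinj : Function.Injective (fun v : (Additive V) => (fA v, fB v)) := by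
      intro v w h
      simp only [Prod.mk.injEq] at h
      by_contra hne
      refine hne (sub_eq_zero.1 (hno (v - w) ?_ ?_))
      · rw [map_sub, hfA v, hfA w, h.1, sub_self]
      · rw [hB'def, LinearMap.smul_apply, map_sub, hfB v, hfB w, h.2, sub_self, smul_zero]
    have := Nat.card_le_card_of_injective _ hinj
    rw [hVc, Nat.card_prod, Nat.card_zmod, ← pow_two] at this
    have := (Nat.pow_le_pow_iff_right hp'.one_lt).1 this
    omega
  have hv₁0 : v₁ ≠ 0 := fun h => by
    rw [h, map_zero] at hlam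
    rcases smul_eq_zero.1 hlam.symm with q | q
    · exact hlam0 q
    · rw [q, map_zero] at hmu
      exact hBA (LinearMap.ext fun v => by
        obtain ⟨c, hc⟩ := hAv v
        rw [Module.End.mul_apply, hc, q, smul_zero, map_zero, LinearMap.zero_apply])
  have hu00 : u0 ≠ 0 := fun h => hv₁0 (by rw [← hB'u0, h, map_zero])
  have hli : LinearIndependent (ZMod p) ![u0, v₁, u2] := by
    rw [Fintype.linearIndependent_iff]
    intro c hc
    rw [Fin.sum_univ_three] at hc
    simp only [Matrix.cons_val_zero, Matrix.cons_val_one, Matrix.cons_val] at hc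
    have hcA := congrArg A hc
    have hcB := congrArg B' hc
    simp only [map_add, map_smul, hAu0, hAu1, hAu2, hB'u0, hB'v₁, hB'u2, smul_zero, zero_add, add_zero,
      map_zero] at hcA hcB
    have h1 : c 1 = 0 := (smul_eq_zero.1 hcA).resolve_right hu00
    have h0 : c 0 = 0 := (smul_eq_zero.1 hcB).resolve_right hv₁0
    rw [h0, h1, zero_smul, zero_smul, zero_add, zero_add] at hc
    have h2 : c 2 = 0 := (smul_eq_zero.1 hc).resolve_right hu2
    intro i
    fin_cases i <;> assumption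
  have hfr : Module.finrank (ZMod p) (Additive V) = 3 := by
    have h := Module.natCard_eq_pow_finrank (K := ZMod p) (V := Additive V)
    rw [hVc, Nat.card_zmod] at h
    exact (Nat.pow_right_injective hp'.two_le h).symm
  let b : Module.Basis (Fin 3) (ZMod p) (Additive V) :=
    basisOfLinearIndependentOfCardEqFinrank hli (by simp [hfr])
  have hb : ∀ i, b i = ![u0, v₁, u2] i := fun i => by simp [b]
  let ρ : X →* Mat p :=
    (LinearMap.toMatrixAlgEquiv b).toMulEquiv.toMonoidHom.comp L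
  have hmat : ∀ (T : Module.End (ZMod p) (Additive V)) (N : Mat p),
      (∀ j, T (b j) = N 0 j • b 0 + N 1 j • b 1 + N 2 j • b 2) → LinearMap.toMatrixAlgEquiv b T = N := by
    intro T N h
    ext i j
    rw [LinearMap.toMatrixAlgEquiv_apply, h j]
    fin_cases i <;> simp [Module.Basis.repr_self]
  have hρ : Pair ρ M M' z z' :=
    { inj := (LinearMap.toMatrixAlgEquiv b).injective.comp hLinj
      hz := by
        show LinearMap.toMatrixAlgEquiv b (L z) = _
        refine hmat _ _ fun j => ?_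
        rw [hLz, LinearMap.add_apply, Module.End.one_apply]
        fin_cases j <;> simp [hb, hAu0, hAu1, hAu2, Matrix.single_apply, add_comm]
      hz' := by
        show LinearMap.toMatrixAlgEquiv b (L z') = _
        refine hmat _ _ fun j => ?_
        rw [hLz', LinearMap.add_apply, Module.End.one_apply]
        fin_cases j <;> simp [hb, hB'u0, hB'v₁, hB'u2, Matrix.single_apply, add_comm]
      zM := hzM
      z'M' := pow_mem hz₁M' _
      z'nM := hz'M
      znM' := hzM'
      cM := hM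
      cM' := hM'c }
  have hU : U ≤ Subgroup.zpowers z := hρ.le_zpowers hUp hUz
  -- translating back
  have hact : ∀ u u' : Additive V, A u = u' →
      ι z (Additive.toMul u) = Additive.toMul u' * Additive.toMul u := by
    intro u u' h
    have h' : L z u = u' + u := by rw [hLz, LinearMap.add_apply, Module.End.one_apply, h, add_comm]
    obtain ⟨x, rfl⟩ := Additive.ofMul.surjective u
    rw [hLapp] at h'
    exact congrArg Additive.toMul h'
  have hval : ∀ c : Fin 3 → ℤ, Additive.toMul ((c 0 : ZMod p) • u0 + (c 1 : ZMod p) • v₁ +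
      (c 2 : ZMod p) • u2) = Additive.toMul u0 ^ c 0 * Additive.toMul v₁ ^ c 1 * Additive.toMul u2 ^ c 2 := by
    intro c
    simp only [Int.cast_smul_eq_zsmul, toMul_add, toMul_zsmul]
  obtain ⟨d, hd, hdz⟩ := hρ.exists_diag
  have hdb : ∀ j, L d (b j) = (![-1, -1, 1] : Fin 3 → ZMod p) j • b j := by
    intro j
    have h : LinearMap.toMatrixAlgEquiv b (L d) = Matrix.diagonal ![-1, -1, 1] := hd
    have h2 := congrArg (fun N => Matrix.toLinAlgEquiv b N (b j)) h
    simp only [Matrix.toLinAlgEquiv_toMatrixAlgEquiv, Matrix.toLinAlgEquiv_self] at h2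
    rw [h2, Fin.sum_univ_three]
    fin_cases j <;> simp
  refine ⟨Additive.toMul u0, Additive.toMul v₁, Additive.toMul u2, d, ?_, ?_, hact v₁ u0 hAu1, ?_, ?_, hU,
    ?_, ?_, ?_, hdz⟩
  · simpa using hact u0 0 hAu0
  · simpa using hact u2 0 hAu2
  · intro x
    set v : Additive V := Additive.ofMul x with hv
    refine ⟨((b.repr v 0).val : ℤ), ((b.repr v 1).val : ℤ), ((b.repr v 2).val : ℤ), ?_⟩
    have h := hval ![((b.repr v 0).val : ℤ), ((b.repr v 1).val : ℤ), ((b.repr v 2).val : ℤ)]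
    simp only [Matrix.cons_val_zero, Matrix.cons_val_one, Matrix.cons_val, Int.cast_natCast,
      ZMod.natCast_zmod_val] at h
    rw [← h]
    have hs := b.sum_repr v
    rw [Fin.sum_univ_three, hb, hb, hb] at hs
    simp only [Matrix.cons_val_zero, Matrix.cons_val_one, Matrix.cons_val] at hs
    rw [hs]
    rfl
  · intro i j l h
    have h' := hval ![i, j, l]
    simp only [Matrix.cons_val_zero, Matrix.cons_val_one, Matrix.cons_val] at h'
    rw [h] at h'
    have hzero : (i : ZMod p) • u0 + (j : ZMod p) • v₁ + (l : ZMod p) • u2 = 0 :=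
      Additive.toMul.injective h'
    have := Fintype.linearIndependent_iff.1 hli ![(i : ZMod p), (j : ZMod p), (l : ZMod p)]
      (by rw [Fin.sum_univ_three]; simpa using hzero)
    exact ⟨(ZMod.intCast_zmod_eq_zero_iff_dvd i p).1 (this 0),
      (ZMod.intCast_zmod_eq_zero_iff_dvd j p).1 (this 1), (ZMod.intCast_zmod_eq_zero_iff_dvd l p).1 (this 2)⟩
  · have h := hdb 0
    simp [hb] at h
    exact congrArg Additive.toMul ((hLapp d (Additive.toMul u0)).symm.trans h)
  · have h := hdb 1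
    simp [hb] at h
    exact congrArg Additive.toMul ((hLapp d (Additive.toMul v₁)).symm.trans h)
  · have h := hdb 2
    simp [hb] at h
    exact congrArg Additive.toMul ((hLapp d (Additive.toMul u2)).symm.trans h)

/-- The automizer in terms of the ambient group. -/
theorem exists_base [hp : Fact p.Prime] [Finite S] (hS : IsPGroup p S) (hF : F.IsSaturated p)
    {E : Subgroup Ω} (hH : F.IsEssential p E) (hcard : Nat.card E = p ^ 3)
    (hel : IsElementaryAbelian p E) (hC : centralizerIn S E ≤ E)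
    {y a₀ : Ω} (hy : y ∈ normalizerIn S E) (hyE : y ∉ E) (ha₀ : a₀ ∈ E) (hya₀ : y * a₀ * y⁻¹ = a₀)
    (hcomm : ∀ x ∈ E, ⁅y, x⁆ ∈ Subgroup.zpowers a₀) :
    ∃ a e w : Ω, BaseData F p E a e w y := by
  have hES := hH.1.1
  have := finite_le hES
  have := finite_mulAut_of_le (S := S) hES
  letI : CommGroup E :=
    { (inferInstance : Group E) with mul_comm := fun u v => hel.1.is_comm.comm u v }
  letI : Module (ZMod p) (Additive E) :=
    AddCommGroup.zmodModule fun v => congrArg Additive.ofMul (Subtype.ext (hel.2 _ (Additive.toMul v).2) :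
      (Additive.toMul v) ^ p = 1)
  set yn : normalizerIn S E := ⟨y, hy⟩ with hyn
  set z : F.autGroup E := ⟨conjAut yn, autInducedBy_le_autGroup hES (conjAut_mem yn)⟩ with hzdef
  have hz1 : z ≠ 1 := fun h => hyE (mem_of_conjAut_inn hH.1 yn (by
    rw [show conjAut yn = (1 : MulAut E) from congrArg Subtype.val h]; exact one_mem _))
  have hcy : ∀ x ∈ E, ⁅y, x⁆ * y = y * ⁅y, x⁆ := fun x hx =>
    (show Commute a₀ y from (mul_inv_eq_iff_eq_mul.1 hya₀).symm).zpow_left
      (Classical.choose (Subgroup.mem_zpowers_iff.1 (hcomm x hx))) |> fun h => by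
      rw [Classical.choose_spec (Subgroup.mem_zpowers_iff.1 (hcomm x hx))] at h
      exact h
  have hiter : ∀ (m : ℕ) (x : Ω), x ∈ E → y ^ m * x * (y ^ m)⁻¹ = ⁅y, x⁆ ^ m * x := by
    intro m x hx
    induction m with
    | zero => simp
    | succ m ih =>
      calc y ^ (m + 1) * x * (y ^ (m + 1))⁻¹ = y * (y ^ m * x * (y ^ m)⁻¹) * y⁻¹ := by
            rw [pow_succ']; group
        _ = y * ⁅y, x⁆ ^ m * (x * y⁻¹) := by rw [ih]; simp only [mul_assoc]
        _ = ⁅y, x⁆ ^ m * y * (x * y⁻¹) := by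
            rw [((show Commute ⁅y, x⁆ y from hcy x hx).pow_left m).eq]
        _ = ⁅y, x⁆ ^ (m + 1) * x := by rw [pow_succ, commutatorElement_def]; group
  have hzp : z ^ p = 1 := by
    refine Subtype.ext (MulEquiv.ext fun x => Subtype.ext ?_)
    let f : normalizerIn S E →* MulAut E := E.normalizerMonoidHom.comp (Subgroup.inclusion inf_le_right)
    have hx : conjAut yn ^ p = f (yn ^ p) := (map_pow f yn p).symm
    show (((conjAut yn ^ p) x : E) : Ω) = x
    rw [hx]
    show y ^ p * (x : Ω) * (y ^ p)⁻¹ = x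
    have hc : ⁅y, (x : Ω)⁆ ∈ E := Subgroup.zpowers_le.2 ha₀ (hcomm x x.2)
    rw [hiter p x x.2, hel.2 _ hc, one_mul]
  have hzo : orderOf z = p := orderOf_eq_prime hzp hz1
  obtain ⟨M, hM, hzM, g, hg, hg'⟩ := exists_embedded hS hF hH hel z (conjAut_mem yn) hzo
  set U := (autInducedBy S E).subgroupOf (F.autGroup E) with hUdef
  obtain ⟨a, e, w, d, hza, hzw, hze, hgen, hind, hU, hda, hde, hdw, hdz⟩ :=
    exists_frame (p := p) (V := E) hcard (F.autGroup E).subtype Subtype.val_injective hM hzM hg hg'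
      (a₀ := ⟨a₀, ha₀⟩) (Subtype.ext hya₀)
      (fun v => by
        obtain ⟨i, hi⟩ := Subgroup.mem_zpowers_iff.1 (hcomm v v.2)
        refine Subgroup.mem_zpowers_iff.2 ⟨i, Subtype.ext ?_⟩
        rw [Subgroup.coe_zpow, hi, commutatorElement_def]
        rfl) hz1 (U := U)
      (isPGroup_subgroupOf (autInducedBy_le_autGroup hES) (isPGroup_autInducedBy hS)) (conjAut_mem yn)
  refine ⟨a, e, w, ⟨a.2, e.2, w.2, hy, hyE, congrArg Subtype.val hza, congrArg Subtype.val hzw,
    congrArg Subtype.val hze, ?_, ?_, ?_, ?_, ⟨d, d.2, congrArg Subtype.val hda, congrArg Subtype.val hde,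
      congrArg Subtype.val hdw, congrArg Subtype.val hdz⟩⟩⟩
  · intro x hx
    obtain ⟨i, j, k, h⟩ := hgen ⟨x, hx⟩
    exact ⟨i, j, k, by simpa using congrArg Subtype.val h⟩
  · intro i j k h
    exact hind i j k (Subtype.ext (by simpa using h))
  · intro x hx
    obtain ⟨i, hi⟩ := Subgroup.mem_zpowers_iff.1 (hU (show
      (⟨conjAut ⟨x, hx⟩, autInducedBy_le_autGroup hES (conjAut_mem _)⟩ : F.autGroup E) ∈ U from
      conjAut_mem (⟨x, hx⟩ : normalizerIn S E)))
    let f : normalizerIn S E →* MulAut E := E.normalizerMonoidHom.comp (Subgroup.inclusion inf_le_right)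
    have hf : f (yn ^ (-i) * ⟨x, hx⟩) = 1 := by
      have h := congrArg Subtype.val hi
      rw [SubgroupClass.coe_zpow] at h
      rw [map_mul, map_zpow]
      show conjAut yn ^ (-i) * conjAut ⟨x, hx⟩ = 1
      rw [show conjAut ⟨x, hx⟩ = conjAut yn ^ i from h.symm, zpow_neg, inv_mul_cancel]
    have hmem : y ^ (-i) * x ∈ E := hC (mem_centralizerIn.2
      ⟨S.mul_mem (S.zpow_mem hy.1 _) hx.1, fun u hu => by
        have h1 := congrArg Subtype.val (DFunLike.congr_fun hf ⟨u, hu⟩)
        have h2 : (y ^ (-i) * x) * u * (y ^ (-i) * x)⁻¹ = u := h1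
        rw [mul_inv_eq_iff_eq_mul] at h2
        exact h2.symm⟩)
    rw [show x = y ^ i * (y ^ (-i) * x) by group]
    exact Subgroup.mul_mem _ (Subgroup.mem_sup_right (Subgroup.zpow_mem _ (Subgroup.mem_zpowers y) i))
      (Subgroup.mem_sup_left hmem)
  · rw [card_normalizerIn, show Nat.card (centralizerIn S E) = p ^ 3 by
      rw [show centralizerIn S E = E from le_antisymm hC fun u hu => mem_centralizerIn.2
        ⟨hES hu, fun v hv => congrArg Subtype.val (hel.1.is_comm.comm (⟨v, hv⟩ : E) ⟨u, hu⟩)⟩, hcard]]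
    have hUz : U = Subgroup.zpowers z := le_antisymm hU (Subgroup.zpowers_le.2 (conjAut_mem yn))
    rw [← Nat.card_congr (Subgroup.subgroupOfEquivOfLe (autInducedBy_le_autGroup (F := F) hES)).toEquiv,
      ← hUdef, hUz, Nat.card_zpowers, hzo, ← pow_succ']

end CfsgLib.SmallEssential
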