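import Cfsg.Agent.Lib.LocalEvenB.SmallEssential.Frame
import Cfsg.Agent.Lib.Fusion.Alperin
import Cfsg.Agent.Lib.Fusion.Centric

/-!
# An abelian subgroup of order `p ^ 3` inside a subgroup with two generators modulo `Om`
-/

set_option autoImplicit false

namespace CfsgLib.SmallEssential

open Cfsg Cfsg.FusionSystem CfsgLib.Fusion
open scoped commutatorElement Matrix

variable {Ω : Type*} [Group Ω] {S : Subgroup Ω} {F : FusionSystem S} {p : ℕ}

/-- The action of `N_S(T)` on `T`. -/
def nHom (S T : Subgroup Ω) : normalizerIn S T →* MulAut T :=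
  T.normalizerMonoidHom.comp (Subgroup.inclusion inf_le_right)

theorem nHom_apply {T : Subgroup Ω} (n : normalizerIn S T) (x : T) :
    ((nHom S T n x : T) : Ω) = n * (x : Ω) * (n : Ω)⁻¹ := rfl

theorem nHom_eq_conjAut {T : Subgroup Ω} (n : normalizerIn S T) : nHom S T n = conjAut n := rfl

/-- The configuration inside `T`. -/
structure Core (F : FusionSystem S) (p : ℕ) (E T : Subgroup Ω) (e v W : T) : Prop where
  TS : T ≤ S
  ET : E ≤ T
  eE : (e : Ω) ∈ E
  WE : (W : Ω) ∈ E
  hel : IsElementaryAbelian p E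
  cardE : Nat.card E = p ^ 3
  frame : Frame p e v W
  cardT : Nat.card T = p ^ 3 * Nat.card (commutator T)
  cent : ∀ (l : ℤ) (x : T), x * (e * W ^ l) = e * W ^ l * x → (x : Ω) ∈ E
  norm : normalizerIn S E ≤ T
  FN : ∀ Q : Subgroup Ω, F.IsConj E Q → Nat.card (normalizerIn S Q) ≤ Nat.card (normalizerIn S E)

variable {E T : Subgroup Ω} {e v W : T}

theorem Core.finite [Finite S] (h : Core F p E T e v W) : Finite T := finite_le h.TS

theorem Core.isPGroup (hS : IsPGroup p S) (h : Core F p E T e v W) : IsPGroup p T := hS.to_le h.TS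

/-- Transport along an isomorphism of the system. -/
theorem Core.transport [Finite S] (h : Core F p E T e v W) {Q : Subgroup Ω} {σ : T ≃* Q}
    (hσ : IsoIn F σ) : Core F p (img (isoHom σ) E) Q (σ e) (σ v) (σ W) := by
  have hφ : isoHom σ ∈ F.Hom T := hσ.mem
  have hQS : Q ≤ S := hσ.le_right
  have hmem : ∀ x : T, ((σ x : Q) : Ω) ∈ img (isoHom σ) E ↔ (x : Ω) ∈ E := fun x =>
    ⟨fun hx => by
      obtain ⟨y, hy, hxy⟩ := hx
      exact σ.injective (show σ y = σ x from Subtype.ext hxy) ▸ hy, fun hx => ⟨x, hx, rfl⟩⟩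
  have hconj : F.IsConj E (img (isoHom σ) E) := isConj_img hφ h.ET
  have hle : img (isoHom σ) (normalizerIn S E) ≤ normalizerIn S (img (isoHom σ) E) := by
    rintro _ ⟨g, hg, rfl⟩
    refine ⟨hQS (σ g).2, ?_⟩
    show _ ∈ Subgroup.normalizer _
    refine Subgroup.mem_normalizer_iff.2 fun y => ⟨?_, fun hy => ?_⟩
    · rintro ⟨x, hx, rfl⟩
      exact ⟨g * x * g⁻¹, (conj_mem_of_mem_normalizer (P := E) hg.2 hx :), by simp⟩
    · obtain ⟨x, hx, hxy⟩ := hy
      refine ⟨g⁻¹ * x * g, ?_, ?_⟩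
      · have := conj_mem_of_mem_normalizer (P := E) ((Subgroup.normalizer (E : Set Ω)).inv_mem hg.2) hx
        show (((g⁻¹ * x * g : T)) : Ω) ∈ E
        simpa using this
      · rw [map_mul, map_mul, map_inv, hxy]
        group
  refine
    { TS := hQS
      ET := fun y ⟨x, _, hxy⟩ => hxy ▸ (σ x).2
      eE := (hmem e).2 h.eE
      WE := (hmem W).2 h.WE
      hel := ⟨⟨⟨?_⟩⟩, ?_⟩
      cardE := (isConj_card hconj).symm.trans h.cardE
      frame := h.frame.map σ
      cardT := ?_
      cent := fun l x hx => (?_ : (x : Ω) ∈ img (isoHom σ) E)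
      norm := ?_
      FN := fun R hR => (h.FN R (isConj_trans hconj hR)).trans ?_ }
  · rintro ⟨_, a, ha, rfl⟩ ⟨_, b, hb, rfl⟩
    refine Subtype.ext ?_
    show isoHom σ a * isoHom σ b = isoHom σ b * isoHom σ a
    rw [← map_mul, ← map_mul, show a * b = b * a from
      Subtype.ext (congrArg Subtype.val (h.hel.1.is_comm.comm (⟨a, ha⟩ : E) ⟨b, hb⟩) :)]
  · rintro _ ⟨a, ha, rfl⟩
    rw [← map_pow, show a ^ p = 1 from Subtype.ext (h.hel.2 _ ha), map_one]
  · rw [← Nat.card_congr σ.toEquiv, h.cardT, ← map_commutator_top σ,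
      Subgroup.card_map_of_injective σ.injective]
  · obtain ⟨x, rfl⟩ := σ.surjective x
    exact (hmem x).2 (h.cent l x (σ.injective (by simpa using hx)))
  · -- the image of the normalizer
    set N' := img (isoHom σ) (normalizerIn S E) with hN'
    have := finite_le (normalizerIn_le (S := S) (img (isoHom σ) E))
    have hcard : Nat.card N' = Nat.card (normalizerIn S E) :=
      card_img (F.injective_of_mem hφ) h.norm
    have heq : N' = normalizerIn S (img (isoHom σ) E) :=
      Subgroup.eq_of_le_of_card_ge hle (hcard ▸ h.FN _ hconj)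
    rw [← heq]
    rintro _ ⟨g, -, rfl⟩
    exact (σ g).2
  · have := finite_le (normalizerIn_le (S := S) (img (isoHom σ) E))
    rw [← card_img (F.injective_of_mem hφ) h.norm]
    exact Subgroup.card_le_of_le hle

variable [hp : Fact p.Prime] [Finite S]

omit hp in
/-- The conjugates of `e * W ^ l`. -/
theorem Core.exists_conj (h : Core F p E T e v W) {l : ℤ} {y : T}
    (hy : (e * W ^ l)⁻¹ * y ∈ commutator T) (hp0 : p ≠ 0) : ∃ t : T, t * (e * W ^ l) * t⁻¹ = y := by
  classical
  have := h.finite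
  set x := e * W ^ l with hx
  set ET := E.subgroupOf T with hET
  have hcard : Nat.card (T ⧸ ET) = Nat.card (commutator T) := by
    have h1 := ET.card_eq_card_quotient_mul_card_subgroup
    rw [Nat.card_congr (Subgroup.subgroupOfEquivOfLe h.ET).toEquiv, h.cardE, h.cardT,
      mul_comm (Nat.card (T ⧸ ET))] at h1
    exact (Nat.eq_of_mul_eq_mul_left (pow_pos (Nat.pos_of_ne_zero hp0) 3) h1).symm
  let f : T ⧸ ET → commutator T := fun q => ⟨x⁻¹ * (q.out * x * q.out⁻¹), by
    rw [show x⁻¹ * (q.out * x * q.out⁻¹) = ⁅x⁻¹, q.out⁆ by rw [commutatorElement_def]; group]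
    exact Subgroup.commutator_mem_commutator (Subgroup.mem_top _) (Subgroup.mem_top _)⟩
  have hf : Function.Injective f := fun q q' hq => by
    have h1 : q.out * x * q.out⁻¹ = q'.out * x * q'.out⁻¹ := mul_left_cancel (congrArg Subtype.val hq)
    rw [← q.out_eq', ← q'.out_eq', QuotientGroup.eq]
    show ((q.out⁻¹ * q'.out : T) : Ω) ∈ E
    refine h.cent l _ ?_
    calc q.out⁻¹ * q'.out * x = q.out⁻¹ * (q'.out * x * q'.out⁻¹) * q'.out := by group
      _ = q.out⁻¹ * (q.out * x * q.out⁻¹) * q'.out := by rw [h1]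
      _ = x * (q.out⁻¹ * q'.out) := by group
  obtain ⟨q, hq⟩ := ((Nat.bijective_iff_injective_and_card f).2 ⟨hf, hcard⟩).2 ⟨_, hy⟩
  exact ⟨q.out, mul_left_cancel (congrArg Subtype.val hq)⟩

variable (hS : IsPGroup p S)

/-- An element of `N_S(T)` fixing `e` modulo `Om` lies in `T`. -/
theorem Core.stab (h : Core F p E T e v W) [Finite T] (n : normalizerIn S T)
    (hn : h.frame.coord (h.isPGroup hS) (nHom S T n e) = h.frame.coord (h.isPGroup hS) e) :
    (n : Ω) ∈ T := by
  have := finite_le (h.ET.trans h.TS)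
  have hmem := (h.frame.coord_eq_iff (h.isPGroup hS)).1 hn.symm
  obtain ⟨l, t, ht, hlt⟩ := (h.frame.mem_Om_iff (h.isPGroup hS)).1 hmem
  obtain ⟨s, hs⟩ := h.exists_conj (l := l) (y := nHom S T n e) (by
    rw [mul_inv_rev, mul_assoc, hlt, inv_mul_cancel_left]
    exact ht) hp.out.ne_zero
  set g : Ω := (s : Ω)⁻¹ * n with hg
  have hge : g * e * g⁻¹ = ((e * W ^ l : T) : Ω) := by
    have h1 : (n : Ω) * e * (n : Ω)⁻¹ = (s : Ω) * ((e * W ^ l : T) : Ω) * (s : Ω)⁻¹ := by
      rw [← nHom_apply n e, ← hs]; rfl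
    rw [hg, mul_inv_rev, inv_inv]
    calc (s : Ω)⁻¹ * n * e * ((n : Ω)⁻¹ * s) = (s : Ω)⁻¹ * ((n : Ω) * e * (n : Ω)⁻¹) * s := by group
      _ = _ := by rw [h1]; group
  have hgS : g ∈ S := S.mul_mem (S.inv_mem (h.TS s.2)) n.2.1
  have hgT : ∀ u ∈ T, g * u * g⁻¹ ∈ T := fun u hu => by
    rw [hg, show (s : Ω)⁻¹ * n * u * ((s : Ω)⁻¹ * n)⁻¹ = (s : Ω)⁻¹ * ((n : Ω) * u * (n : Ω)⁻¹) * s by group]
    exact T.mul_mem (T.mul_mem (T.inv_mem s.2) (conj_mem_of_mem_normalizer n.2.2 hu)) s.2
  have hgE : ∀ u ∈ E, g * u * g⁻¹ ∈ E := fun u hu => by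
    refine h.cent l ⟨_, hgT u (h.ET hu)⟩ (Subtype.ext ?_)
    have he : u * (e : Ω) = e * u := congrArg Subtype.val (h.hel.1.is_comm.comm (⟨u, hu⟩ : E) ⟨e, h.eE⟩)
    show g * u * g⁻¹ * ((e * W ^ l : T) : Ω) = ((e * W ^ l : T) : Ω) * (g * u * g⁻¹)
    rw [← hge]
    calc g * u * g⁻¹ * (g * e * g⁻¹) = g * (u * e) * g⁻¹ := by group
      _ = g * (e * u) * g⁻¹ := by rw [he]
      _ = _ := by group
  have hgN : g ∈ normalizerIn S E := by
    refine ⟨hgS, Subgroup.mem_normalizer_iff.2 fun u => ⟨hgE u, fun hu => ?_⟩⟩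
    have hinj : Function.Injective (fun w : E => (⟨g * w * g⁻¹, hgE w w.2⟩ : E)) := fun a b hab =>
      Subtype.ext (mul_left_cancel (mul_right_cancel (congrArg Subtype.val hab :)))
    obtain ⟨⟨w, hw⟩, hwu⟩ := Finite.injective_iff_surjective.1 hinj ⟨_, hu⟩
    have h2 : g * w * g⁻¹ = g * u * g⁻¹ := congrArg Subtype.val hwu
    exact mul_left_cancel (mul_right_cancel h2) ▸ hw
  have := T.mul_mem s.2 (h.norm hgN)
  rwa [hg, mul_inv_cancel_left] at this

/-- `T` has index at most `p` in its normalizer. -/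
theorem Core.bound (hS : IsPGroup p S) (h : Core F p E T e v W) :
    Nat.card (normalizerIn S T) ≤ p * Nat.card T := by
  classical
  have := h.finite
  have := finite_le (normalizerIn_le (S := S) T)
  haveI : NeZero p := ⟨hp.out.ne_zero⟩
  have hP := h.isPGroup hS
  set T' := T.subgroupOf (normalizerIn S T) with hT'
  let f : normalizerIn S T ⧸ T' → {a : Fin 2 → ZMod p // a ≠ 0} := fun q =>
    ⟨h.frame.coord hP (nHom S T q.out e), fun h0 => by
      have h1 := Om_map (nHom S T q.out).symm ((h.frame.coord_eq_zero hP).1 h0)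
      rw [MulEquiv.symm_apply_apply, ← h.frame.coord_eq_zero hP, h.frame.coord_e hP] at h1
      exact one_ne_zero (congrFun h1 0)⟩
  have hf : Function.Injective f := fun q q' hq => by
    rw [← q.out_eq', ← q'.out_eq', QuotientGroup.eq]
    show ((q.out⁻¹ * q'.out : normalizerIn S T) : Ω) ∈ T
    refine h.stab hS _ ?_
    have h1 : h.frame.coord hP (nHom S T q'.out e) = h.frame.coord hP (nHom S T q.out e) :=
      (congrArg Subtype.val hq).symm
    rw [map_mul, MulAut.mul_apply, h.frame.mat_mulVec hP, h1, ← h.frame.mat_mulVec hP, ← MulAut.mul_apply,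
      ← map_mul, inv_mul_cancel, map_one, MulAut.one_apply]
  have hlt : T'.index < p ^ 2 := by
    have h1 := Nat.card_le_card_of_injective f hf
    rw [← Subgroup.index_eq_card] at h1
    refine h1.trans_lt ?_
    calc Nat.card {a : Fin 2 → ZMod p // a ≠ 0} < Nat.card (Fin 2 → ZMod p) := by
          rw [Nat.card_eq_fintype_card, Nat.card_eq_fintype_card]
          exact Fintype.card_subtype_lt (p := fun a => a ≠ 0) (x := 0) (by simp)
      _ = p ^ 2 := by simp
  obtain ⟨i, hi⟩ := (hS.to_le (normalizerIn_le (S := S) T)).index T'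
  have := T'.card_mul_index
  rw [Nat.card_congr (Subgroup.subgroupOfEquivOfLe (le_normalizerIn h.TS)).toEquiv] at this
  rw [← this, hi, mul_comm p]
  refine Nat.mul_le_mul_left _ ?_
  calc p ^ i ≤ p ^ 1 := Nat.pow_le_pow_right hp.out.pos (by
        rw [hi] at hlt
        have := (Nat.pow_lt_pow_iff_right hp.out.one_lt).1 hlt
        omega)
    _ = p := pow_one p

/-- `T` is fully normalized when it is proper. -/
theorem Core.fullyNormalized (hS : IsPGroup p S) (h : Core F p E T e v W) (hlt : T < S) :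
    F.IsFullyNormalized T ∧ Nat.card (normalizerIn S T) = p * Nat.card T := by
  have := h.finite
  have := finite_le (normalizerIn_le (S := S) T)
  have hN : T < normalizerIn S T := lt_normalizerIn hS hlt
  obtain ⟨i, hi⟩ := (hS.to_le (normalizerIn_le (S := S) T)).exists_card_eq
  obtain ⟨j, hj⟩ := (hS.to_le h.TS).exists_card_eq
  have hle : Nat.card T ≤ Nat.card (normalizerIn S T) := Subgroup.card_le_of_le hN.le
  have hne : Nat.card T ≠ Nat.card (normalizerIn S T) := fun e =>
    hN.ne (Subgroup.eq_of_le_of_card_ge hN.le e.ge)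
  have hji : p * Nat.card T ≤ Nat.card (normalizerIn S T) := by
    rw [hi, hj] at hle hne ⊢
    have hji' := (Nat.pow_le_pow_iff_right hp.out.one_lt).1 hle
    rw [← pow_succ']
    exact Nat.pow_le_pow_right hp.out.pos (Nat.succ_le_of_lt (lt_of_le_of_ne hji' fun e => hne (by rw [e])))
  refine ⟨⟨h.TS, fun Q hQ => ?_⟩, le_antisymm (h.bound hS) hji⟩
  obtain ⟨σ, hσ⟩ := isConj_iff.1 hQ
  exact ((h.transport hσ).bound hS).trans ((Nat.card_congr σ.toEquiv).symm ▸ hji)

end CfsgLib.SmallEssential
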