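import Mathlib

/-!
# Linear groups of degree three with a strongly `p`-embedded subgroup containing a transvection

If `z` is a transvection in `M` and `z'` an opposite one, both `M` and its partner containing the
centralizers of their elements of order `p`, then every `p`-element centralizing `z` is a power of `z`.
-/

set_option autoImplicit false

namespace CfsgLib.SmallEssential

open Matrix

/-- `M` contains the centralizers of its elements of order `p`. -/
def HasCents (p : ℕ) {X : Type*} [Group X] (M : Subgroup X) : Prop :=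
  ∀ x ∈ M, x ≠ 1 → x ^ p = 1 → Subgroup.centralizer ({x} : Set X) ≤ M

section Ring

variable {R : Type*} [Ring R]

theorem one_add_mul_one_sub {A : R} (hA : A * A = 0) : (1 + A) * (1 - A) = 1 := by
  rw [add_mul, mul_sub, mul_sub, mul_one, mul_one, one_mul, hA, sub_zero, sub_add_cancel]

theorem one_add_pow {A : R} (hA : A * A = 0) (n : ℕ) : (1 + A) ^ n = 1 + n • A := by
  induction n with
  | zero => simp
  | succ n ih =>
    rw [pow_succ, ih, succ_nsmul, add_mul, mul_add, smul_mul_assoc, mul_add, hA, mul_one, mul_one, one_mul,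
      add_zero, add_assoc, add_comm A]

end Ring

variable {p : ℕ} [hp : Fact p.Prime] {X : Type*} [Group X]
  {R : Type*} [Ring R] [CharP R p] {ρ : X →* R}

theorem map_inv_of_sq {x : X} {A : R} (hA : A * A = 0) (hx : ρ x = 1 + A) : ρ x⁻¹ = 1 - A := by
  calc ρ x⁻¹ = ρ x⁻¹ * ((1 + A) * (1 - A)) := by rw [one_add_mul_one_sub hA, mul_one]
    _ = ρ (x⁻¹ * x) * (1 - A) := by rw [map_mul, ← hx, mul_assoc]
    _ = 1 - A := by rw [inv_mul_cancel, map_one, one_mul]

omit hp in
theorem pow_eq_one_of_sq (hρ : Function.Injective ρ) {x : X} {A : R} (hA : A * A = 0) (hx : ρ x = 1 + A) :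
    x ^ p = 1 := by
  refine hρ ?_
  rw [map_pow, hx, one_add_pow hA, map_one, nsmul_eq_mul, CharP.cast_eq_zero, zero_mul, add_zero]

omit hp in
/-- Two elements with `AB = 0 ≠ BA` have a common element of order `p` in their centralizers. -/
theorem one_sided (hρ : Function.Injective ρ) {x y : X} {A B : R} (hx : ρ x = 1 + A) (hy : ρ y = 1 + B)
    (hA : A * A = 0) (hB : B * B = 0) (hAB : A * B = 0) (hBA : B * A ≠ 0) :
    ∃ c : X, ρ c = 1 + B * A ∧ c ≠ 1 ∧ c ^ p = 1 ∧ c * x = x * c ∧ c * y = y * c := by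
  have hsq : B * A * (B * A) = 0 := by rw [mul_assoc, ← mul_assoc A, hAB]; simp
  have e1 : B * A * A = 0 := by rw [mul_assoc, hA, mul_zero]
  have e2 : A * (B * A) = 0 := by rw [← mul_assoc, hAB, zero_mul]
  have e3 : B * (B * A) = 0 := by rw [← mul_assoc, hB, zero_mul]
  have e4 : B * A * B = 0 := by rw [mul_assoc, hAB, mul_zero]
  have hc : ρ (y * x * y⁻¹ * x⁻¹) = 1 + B * A := by
    rw [map_mul, map_mul, map_mul, map_inv_of_sq hA hx, map_inv_of_sq hB hy, hx, hy]
    calc (1 + B) * (1 + A) * (1 - B) * (1 - A)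
        = 1 + B * A + (B * (A * B) * A - A * A - B * B - B * A * A - B * A * B - A * B + A * B * A
            + B * B * A) := by noncomm_ring
      _ = 1 + B * A := by rw [hAB, hA, hB, e1, e4]; simp
  refine ⟨_, hc, fun h => hBA ?_, pow_eq_one_of_sq hρ hsq hc, hρ ?_, hρ ?_⟩
  · rw [h, map_one] at hc
    exact add_left_cancel (a := (1 : R)) (by rw [← hc, add_zero])
  · rw [map_mul ρ _ x, map_mul ρ x, hc, hx, add_mul, mul_add, mul_add, mul_add, add_mul, add_mul, e1, e2]
    simp [add_comm, add_left_comm]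
  · rw [map_mul ρ _ y, map_mul ρ y, hc, hy, add_mul, mul_add, mul_add, mul_add, add_mul, add_mul, e3, e4]
    simp [add_comm, add_left_comm]

omit hp in
theorem mem_of_common {M : Subgroup X} (hM : HasCents p M) {x y c : X} (hx : x ∈ M) (hx1 : x ≠ 1)
    (hxp : x ^ p = 1) (hc1 : c ≠ 1) (hcp : c ^ p = 1) (hcx : c * x = x * c) (hcy : c * y = y * c) : y ∈ M :=
  hM c (hM x hx hx1 hxp (Subgroup.mem_centralizer_singleton_iff.2 hcx)) hc1 hcp
    (Subgroup.mem_centralizer_singleton_iff.2 hcy.symm)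

/-- Matrices of degree three. -/
abbrev Mat (p : ℕ) := Matrix (Fin 3) (Fin 3) (ZMod p)

theorem entries_of_comm {N : Mat p} (h : N * single 0 1 1 = single 0 1 1 * N) :
    N 1 0 = 0 ∧ N 1 2 = 0 ∧ N 2 0 = 0 ∧ N 0 0 = N 1 1 := by
  have e := fun i j => congrFun (congrFun h i) j
  have a := e 1 1; have b := e 0 2; have c := e 2 1; have d := e 0 1
  simp [Matrix.mul_apply, Fin.sum_univ_three, Matrix.single_apply] at a b c d
  exact ⟨a, b.symm, c, d⟩

theorem pow_smul_single (c : ZMod p) : ((c.val : ℕ) • (single (0 : Fin 3) (1 : Fin 3) (1 : ZMod p))) = single (0 : Fin 3) (1 : Fin 3) c := by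
  haveI : NeZero p := ⟨hp.out.ne_zero⟩
  ext i j
  by_cases h : (0 : Fin 3) = i ∧ (1 : Fin 3) = j <;> simp [Matrix.smul_apply, Matrix.single_apply, h]

/-- The hypotheses. -/
structure Pair (ρ : X →* Mat p) (M M' : Subgroup X) (z z' : X) : Prop where
  inj : Function.Injective ρ
  hz : ρ z = 1 + single 0 1 1
  hz' : ρ z' = 1 + single 1 0 1
  zM : z ∈ M
  z'M' : z' ∈ M'
  z'nM : z' ∉ M
  znM' : z ∉ M'
  cM : HasCents p M
  cM' : HasCents p M'

variable {M M' : Subgroup X} {z z' : X} {σ : X →* Mat p}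

theorem Pair.swap (h : Pair σ M M' z z') :
    Pair ((Matrix.reindexAlgEquiv (ZMod p) (ZMod p) (Equiv.swap (0 : Fin 3) 1)).toMulEquiv.toMonoidHom.comp σ)
      M' M z' z := by
  have hs : ∀ i j : Fin 3, (Matrix.reindexAlgEquiv (ZMod p) (ZMod p) (Equiv.swap (0 : Fin 3) 1))
      (1 + single i j 1) = 1 + single (Equiv.swap 0 1 i) (Equiv.swap 0 1 j) 1 := by
    intro i j
    rw [map_add, map_one]
    congr 1
    ext a b
    simp [Matrix.single_apply, Equiv.swap_apply_eq_iff]
  exact
    { inj := fun a b e => h.inj ((Matrix.reindexAlgEquiv (ZMod p) (ZMod p) (Equiv.swap (0 : Fin 3) 1)).injective e)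
      hz := by simpa [h.hz'] using hs 1 0
      hz' := by simpa [h.hz] using hs 0 1
      zM := h.z'M'
      z'M' := h.zM
      z'nM := h.znM'
      znM' := h.z'nM
      cM := h.cM'
      cM' := h.cM }

theorem Pair.sq (_h : Pair σ M M' z z') (i j : Fin 3) (hij : i ≠ j) :
    (single i j (1 : ZMod p)) * single i j 1 = 0 := by simp [hij.symm]

theorem Pair.z_ne (h : Pair σ M M' z z') : z ≠ 1 := fun e => h.znM' (e ▸ one_mem _)

theorem Pair.z'_ne (h : Pair σ M M' z z') : z' ≠ 1 := fun e => h.z'nM (e ▸ one_mem _)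

theorem Pair.z_pow (h : Pair σ M M' z z') : z ^ p = 1 := pow_eq_one_of_sq h.inj (h.sq 0 1 (by decide)) h.hz

theorem Pair.z'_pow (h : Pair σ M M' z z') : z' ^ p = 1 := pow_eq_one_of_sq h.inj (h.sq 1 0 (by decide)) h.hz'

/-- An element centralizing `z`, multiplied into the form with vanishing `(0,1)` entry. -/
theorem Pair.adjust (h : Pair σ M M' z z') {x : X} {N : Mat p} (hN : σ x = 1 + N) (hcol : N 0 0 = 0)
    (h10 : N 1 0 = 0) (h20 : N 2 0 = 0) :
    σ (x * z ^ (-N 0 1).val) = 1 + (N - single 0 1 (N 0 1)) := by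
  have hNE : N * single 0 1 (-N 0 1) = 0 := by
    ext i j
    fin_cases i <;> fin_cases j <;> simp [Matrix.mul_apply, Fin.sum_univ_three, Matrix.single_apply, hcol, h10, h20]
  have hneg : single (0 : Fin 3) (1 : Fin 3) (-N 0 1) = -single 0 1 (N 0 1) := by
    ext a b
    by_cases hab : (0 : Fin 3) = a ∧ (1 : Fin 3) = b <;> simp [Matrix.single_apply, hab]
  rw [map_mul, map_pow, hN, h.hz, one_add_pow (h.sq 0 1 (by decide)),
    show (-N 0 1).val • single (0 : Fin 3) (1 : Fin 3) (1 : ZMod p) = single 0 1 (-N 0 1) from pow_smul_single _,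
    add_mul, mul_add, mul_add, hNE, hneg]
  simp only [one_mul, mul_one]
  abel

/-- Square zero. -/
theorem Pair.mem_zpowers_of_sq (h : Pair σ M M' z z') {x : X} {N : Mat p} (hN : σ x = 1 + N) (hsq : N * N = 0)
    (hc : x * z = z * x) : x ∈ Subgroup.zpowers z := by
  have hcm : N * single 0 1 1 = single 0 1 1 * N := by
    have e := congrArg σ hc
    rw [map_mul, map_mul, hN, h.hz] at e
    refine sub_eq_zero.1 ?_
    calc _ = (1 + N) * (1 + single 0 1 1) - (1 + single 0 1 1) * (1 + N) := by noncomm_ring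
      _ = 0 := sub_eq_zero.2 e
  obtain ⟨h10, h12, h20, h00⟩ := entries_of_comm hcm
  have e := fun i j => congrFun (congrFun hsq i) j
  have a := e 0 0; have b := e 2 2; have c := e 0 1
  simp [Matrix.mul_apply, Fin.sum_univ_three, h10, h12, h20] at a b c
  have h00' : N 0 0 = 0 := a
  have h11 : N 1 1 = 0 := h00 ▸ h00'
  rw [h00', h11, zero_mul, mul_zero, zero_add, zero_add] at c
  set x1 := x * z ^ (-N 0 1).val with hx1
  have hN1 := h.adjust hN h00' h10 h20
  rw [← hx1] at hN1
  suffices hone : x1 = 1 by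
    rw [eq_inv_of_mul_eq_one_left hone]
    exact inv_mem (pow_mem (Subgroup.mem_zpowers z) _)
  by_contra hne
  set A := N - single 0 1 (N 0 1) with hA
  have hAsq : A * A = 0 := by
    ext i j
    fin_cases i <;> fin_cases j <;>
      simp [hA, Matrix.mul_apply, Fin.sum_univ_three, Matrix.single_apply, h00', h10, h20, h11, h12, b, c]
  have hx1z : x1 * z = z * x1 := by
    rw [hx1, mul_assoc, (Commute.self_pow z _).eq.symm, ← mul_assoc, hc, mul_assoc]
  have hx1p : x1 ^ p = 1 := pow_eq_one_of_sq h.inj hAsq hN1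
  have hx1M : x1 ∈ M := h.cM z h.zM h.z_ne h.z_pow (Subgroup.mem_centralizer_singleton_iff.2 hx1z)
  have hAne : A ≠ 0 := fun e => hne (h.inj (by rw [hN1, e, add_zero, map_one]))
  rcases mul_eq_zero.1 c with h02 | h21
  · -- the axis type
    have hBA : A * single 1 0 1 ≠ 0 := fun e0 => hAne (by
      have q := congrFun (congrFun e0 2) 0
      simp [hA, Matrix.mul_apply, Fin.sum_univ_three, Matrix.single_apply] at q
      ext i j
      fin_cases i <;> fin_cases j <;>
        simp [hA, Matrix.single_apply, h00', h10, h20, h11, h12, b, h02, q])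
    have hAB : single 1 0 1 * A = 0 := by
      ext i j
      fin_cases i <;> fin_cases j <;>
        simp [hA, Matrix.mul_apply, Fin.sum_univ_three, Matrix.single_apply, h00', h02]
    obtain ⟨d, -, hd1, hdp, hdx, hdy⟩ := one_sided h.inj h.hz' hN1 (h.sq 1 0 (by decide)) hAsq hAB hBA
    exact h.z'nM (mem_of_common h.cM hx1M hne hx1p hd1 hdp hdy hdx)
  · -- the centre type
    have hBA : single 1 0 1 * A ≠ 0 := fun e0 => hAne (by
      have q := congrFun (congrFun e0 1) 2
      simp [hA, Matrix.mul_apply, Fin.sum_univ_three, Matrix.single_apply] at q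
      ext i j
      fin_cases i <;> fin_cases j <;>
        simp [hA, Matrix.single_apply, h00', h10, h20, h11, h12, b, h21, q])
    have hAB : A * single 1 0 1 = 0 := by
      ext i j
      fin_cases i <;> fin_cases j <;>
        simp [hA, Matrix.mul_apply, Fin.sum_univ_three, Matrix.single_apply, h11, h21]
    obtain ⟨d, -, hd1, hdp, hdx, hdy⟩ := one_sided h.inj hN1 h.hz' hAsq (h.sq 1 0 (by decide)) hAB hBA
    exact h.z'nM (mem_of_common h.cM hx1M hne hx1p hd1 hdp hdx hdy)

/-- A `p`-element centralizing `z`. -/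
theorem Pair.mem_zpowers (h : Pair σ M M' z z') {x : X} (hc : x * z = z * x) {k : ℕ} (hk : x ^ p ^ k = 1) :
    x ∈ Subgroup.zpowers z := by
  set N := σ x - 1 with hNdef
  have hN : σ x = 1 + N := by rw [hNdef]; abel
  have hnil : N ^ p ^ k = 0 := by
    rw [hNdef, sub_pow_char_pow_of_commute p k (Commute.one_right _), one_pow, ← map_pow, hk, map_one, sub_self]
  have hcm : N * single 0 1 1 = single 0 1 1 * N := by
    have e := congrArg σ hc
    rw [map_mul, map_mul, hN, h.hz] at e
    refine sub_eq_zero.1 ?_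
    calc _ = (1 + N) * (1 + single 0 1 1) - (1 + single 0 1 1) * (1 + N) := by noncomm_ring
      _ = 0 := sub_eq_zero.2 e
  obtain ⟨h10, h12, h20, h00⟩ := entries_of_comm hcm
  have hdiag : ∀ n : ℕ, (N ^ n) 0 0 = N 0 0 ^ n ∧ (N ^ n) 1 0 = 0 ∧ (N ^ n) 2 0 = 0 ∧ (N ^ n) 1 2 = 0 ∧
      (N ^ n) 2 2 = N 2 2 ^ n := by
    intro n
    induction n with
    | zero => simp
    | succ n ih =>
      obtain ⟨i1, i2, i3, i4, i5⟩ := ih
      refine ⟨?_, ?_, ?_, ?_, ?_⟩ <;>
        simp [pow_succ, Matrix.mul_apply, Fin.sum_univ_three, i1, i2, i3, i4, i5, h10, h12, h20]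
  obtain ⟨d1, -, -, -, d5⟩ := hdiag (p ^ k)
  rw [hnil] at d1 d5
  have h00' : N 0 0 = 0 := pow_eq_zero_iff'.1 d1.symm |>.1
  have h22 : N 2 2 = 0 := pow_eq_zero_iff'.1 d5.symm |>.1
  have h11 : N 1 1 = 0 := h00 ▸ h00'
  by_cases hrq : N 0 2 * N 2 1 = 0
  · refine h.mem_zpowers_of_sq hN ?_ hc
    ext i j
    fin_cases i <;> fin_cases j <;>
      simp [Matrix.mul_apply, Fin.sum_univ_three, h00', h10, h20, h11, h12, h22, hrq]
  exfalso
  set x1 := x * z ^ (-N 0 1).val with hx1
  have hN1 := h.adjust hN h00' h10 h20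
  rw [← hx1] at hN1
  set A := N - single 0 1 (N 0 1) with hA
  have hinv : σ x1⁻¹ = 1 - A + A * A := by
    have h3 : A * A * A = 0 := by
      ext i j
      fin_cases i <;> fin_cases j <;>
        simp [hA, Matrix.mul_apply, Fin.sum_univ_three, Matrix.single_apply, h00', h10, h20, h11, h12, h22]
    calc σ x1⁻¹ = σ x1⁻¹ * ((1 + A) * (1 - A + A * A)) := by
          rw [show (1 + A) * (1 - A + A * A) = 1 + A * A * A by noncomm_ring, h3, add_zero, mul_one]
      _ = σ (x1⁻¹ * x1) * (1 - A + A * A) := by rw [map_mul, ← hN1, mul_assoc]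
      _ = _ := by rw [inv_mul_cancel, map_one, one_mul]
  set B : Mat p := (1 + A) * single 1 0 1 * (1 - A + A * A) with hB
  have hy : σ (x1 * z' * x1⁻¹) = 1 + B := by
    rw [map_mul, map_mul, hN1, h.hz', hinv, hB]
    calc _ = (1 + A) * (1 - A + A * A) + (1 + A) * single 1 0 1 * (1 - A + A * A) := by noncomm_ring
      _ = _ := by
        rw [show (1 + A) * (1 - A + A * A) = 1 by rw [← hN1, ← hinv, ← map_mul, mul_inv_cancel, map_one]]
  have hBsq : B * B = 0 := by
    rw [hB]
    have e : (1 - A + A * A) * (1 + A) = 1 := by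
      rw [← hinv, ← hN1, ← map_mul, inv_mul_cancel, map_one]
    calc _ = (1 + A) * single 1 0 1 * (((1 - A + A * A) * (1 + A)) * single 1 0 1) * (1 - A + A * A) := by
          simp only [mul_assoc]
      _ = _ := by
        rw [e, one_mul, show (1 + A) * single 1 0 1 * single 1 0 1 = 0 by
          rw [mul_assoc, h.sq 1 0 (by decide), mul_zero], zero_mul]
  have hAB : single 1 0 1 * B = 0 := by
    ext i j
    fin_cases i <;> fin_cases j <;>
      simp [hB, hA, Matrix.mul_apply, Fin.sum_univ_three, Matrix.single_apply, h00', h10, h20, h11, h12, h22]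
  have h21 : (B * (single 1 0 1 : Mat p) : Mat p) 2 0 = N 2 1 * (N 0 2 * N 2 1) := by
    simp [hB, hA, Matrix.mul_apply, Fin.sum_univ_three, Matrix.single_apply, h00', h10, h20, h11, h12, h22]
  have hne : N 2 1 * (N 0 2 * N 2 1) ≠ 0 := mul_ne_zero (right_ne_zero_of_mul hrq) hrq
  have hBA : B * single 1 0 1 ≠ 0 := fun e => hne (by rw [← h21, e]; rfl)
  obtain ⟨d, hd, -, -, hdz, -⟩ := one_sided h.inj h.hz' hy (h.sq 1 0 (by decide)) hBsq hAB hBA
  have hdsq : B * single 1 0 1 * (B * single 1 0 1) = 0 := by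
    rw [mul_assoc, ← mul_assoc (single 1 0 1) B, hAB]; simp
  have hmem := h.swap.mem_zpowers_of_sq (x := d)
    (N := (Matrix.reindexAlgEquiv (ZMod p) (ZMod p) (Equiv.swap (0 : Fin 3) 1)) (B * single 1 0 1))
    (by
      show (Matrix.reindexAlgEquiv (ZMod p) (ZMod p) (Equiv.swap (0 : Fin 3) 1)) (σ d) = _
      rw [hd, map_add, map_one]) (by rw [← map_mul, hdsq, map_zero]) hdz
  have hf : IsOfFinOrder z' := isOfFinOrder_iff_pow_eq_one.2 ⟨p, hp.out.pos, h.z'_pow⟩
  obtain ⟨m, rfl⟩ := hf.mem_powers_iff_mem_zpowers.2 hmem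
  rw [map_pow, h.hz', one_add_pow (h.sq 1 0 (by decide))] at hd
  have q := congrArg (fun T : Mat p => T 2 0) (add_left_cancel hd)
  rw [h21] at q
  simp [Matrix.single_apply] at q
  exact hne (by rcases q with q | q | q <;> simp [q])

/-- A `p`-group containing `z` is generated by it. -/
theorem Pair.le_zpowers [Finite X] (h : Pair σ M M' z z') {U : Subgroup X} (hU : IsPGroup p U) (hz : z ∈ U) :
    U ≤ Subgroup.zpowers z := by
  haveI : Nontrivial U := ⟨⟨⟨z, hz⟩, 1, fun e => h.z_ne (congrArg Subtype.val e)⟩⟩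
  haveI := hU.center_nontrivial
  obtain ⟨⟨u, hu⟩, hu1⟩ := exists_ne (1 : Subgroup.center U)
  have hu1' : (u : X) ≠ 1 := fun e => hu1 (Subtype.ext (Subtype.ext e))
  have hcz : ∀ y : U, (y : X) * u = u * y := fun y => congrArg Subtype.val (Subgroup.mem_center_iff.1 hu y)
  obtain ⟨k, hk⟩ := hU u
  have hmem := h.mem_zpowers (hcz ⟨z, hz⟩).symm (k := k) (congrArg Subtype.val hk)
  have ho : orderOf z = p := orderOf_eq_prime h.z_pow h.z_ne
  have heq : Subgroup.zpowers (u : X) = Subgroup.zpowers z := by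
    refine Subgroup.eq_of_le_of_card_ge (Subgroup.zpowers_le.2 hmem) ?_
    rw [Nat.card_zpowers, Nat.card_zpowers, ho]
    have hd : orderOf (u : X) ∣ p := ho ▸ orderOf_dvd_of_mem_zpowers hmem
    rcases (Nat.dvd_prime hp.out).1 hd with e | e
    · exact absurd (orderOf_eq_one_iff.1 e) hu1'
    · exact e.ge
  obtain ⟨j, hj⟩ := Subgroup.mem_zpowers_iff.1 (heq.ge (Subgroup.mem_zpowers z))
  intro y hy
  obtain ⟨k', hk'⟩ := hU ⟨y, hy⟩
  refine h.mem_zpowers ?_ (congrArg Subtype.val hk')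
  rw [← hj]
  exact ((show Commute y (u : X) from hcz ⟨y, hy⟩).zpow_right j).eq

/-- The involution. -/
theorem Pair.exists_diag (h : Pair σ M M' z z') :
    ∃ d : X, σ d = diagonal ![-1, -1, 1] ∧ d * z = z * d := by
  have hz'i : σ z'⁻¹ = 1 - single 1 0 1 := map_inv_of_sq (h.sq 1 0 (by decide)) h.hz'
  have hd : σ ((z * z'⁻¹ * z) * (z * z'⁻¹ * z)) = diagonal ![-1, -1, 1] := by
    simp only [map_mul, h.hz, hz'i]
    ext i j
    fin_cases i <;> fin_cases j <;> simp [Matrix.mul_apply, Fin.sum_univ_three, Matrix.single_apply]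
  refine ⟨_, hd, h.inj ?_⟩
  rw [map_mul σ _ z, map_mul σ z, hd, h.hz]
  ext i j
  fin_cases i <;> fin_cases j <;> simp [Matrix.mul_apply, Fin.sum_univ_three, Matrix.single_apply]

end CfsgLib.SmallEssential
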