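import Cfsg.Agent.Lib.LocalEvenB.SmallEssential.Frame
import Cfsg.Agent.Lib.PGroups.Basic
import Cfsg.Agent.Lib.Fusion.MetacyclicTwoClosed

/-!
# Unipotent automorphisms of a framed group
-/

set_option autoImplicit false

namespace CfsgLib.SmallEssential

open scoped commutatorElement Matrix

variable {p : ℕ} [hp : Fact p.Prime]

/-- A nilpotent matrix of degree two has square zero. -/
theorem sq_eq_zero_of_pow {D : Matrix (Fin 2) (Fin 2) (ZMod p)} {n : ℕ} (h : D ^ n = 0) : D * D = 0 := by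
  have hdet : D.det = 0 := by
    have := congrArg Matrix.det h
    rw [Matrix.det_pow, Matrix.det_zero] at this
    exact pow_eq_zero_iff'.1 this |>.1
  have hDD : D * D = (D 0 0 + D 1 1) • D := by
    rw [Matrix.det_fin_two, sub_eq_zero] at hdet
    ext i j
    fin_cases i <;> fin_cases j <;>
      simp [Matrix.mul_apply, Fin.sum_univ_two] <;>
      first
      | linear_combination hdet
      | linear_combination -hdet
      | ring
  have hpow : ∀ k : ℕ, D ^ (k + 1) = (D 0 0 + D 1 1) ^ k • D := by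
    intro k
    induction k with
    | zero => simp
    | succ k ih => rw [pow_succ, ih, smul_mul_assoc, hDD, smul_smul, ← pow_succ]
  by_cases ht : D 0 0 + D 1 1 = 0
  · rw [hDD, ht, zero_smul]
  have h1 : D ^ (n + 1) = 0 := by rw [pow_succ, h, zero_mul]
  rw [hpow n, smul_eq_zero] at h1
  rcases h1 with h1 | h1
  · exact absurd (pow_eq_zero_iff'.1 h1).1 ht
  · rw [h1, zero_mul]

/-- Lower unitriangular matrices. -/
def IsLU (M : Matrix (Fin 2) (Fin 2) (ZMod p)) : Prop := M 0 0 = 1 ∧ M 0 1 = 0 ∧ M 1 1 = 1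

theorem IsLU.mul {M N : Matrix (Fin 2) (Fin 2) (ZMod p)} (hM : IsLU M) (hN : IsLU N) : IsLU (M * N) := by
  refine ⟨?_, ?_, ?_⟩ <;>
    simp [Matrix.mul_apply, Fin.sum_univ_two, hM.1, hM.2.1, hM.2.2, hN.1, hN.2.1, hN.2.2]

theorem IsLU.of_inv {M N : Matrix (Fin 2) (Fin 2) (ZMod p)} (hM : IsLU M) (h : M * N = 1) : IsLU N := by
  have e := fun i j => congrFun (congrFun h i) j
  have a := e 0 0; have b := e 0 1; have c := e 1 1
  simp [Matrix.mul_apply, Fin.sum_univ_two, hM.1, hM.2.1, hM.2.2] at a b c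
  refine ⟨a, b, ?_⟩
  rwa [b, mul_zero, zero_add] at c

theorem IsLU.conj {A B U : Matrix (Fin 2) (Fin 2) (ZMod p)} (hU : IsLU U) (hA : A 0 1 = 0)
    (hAB : A * B = 1) : IsLU (A * U * B) := by
  have e := fun i j => congrFun (congrFun hAB i) j
  have a := e 0 0; have b := e 0 1; have c := e 1 1
  simp [Matrix.mul_apply, Fin.sum_univ_two, hA] at a b c
  have hB : B 0 1 = 0 := b.resolve_left fun h => by simp [h] at a
  rw [hB, mul_zero, zero_add] at c
  refine ⟨?_, ?_, ?_⟩ <;> simp [Matrix.mul_apply, Fin.sum_univ_two, hA, hU.1, hU.2.1, hU.2.2, hB, a, c]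

theorem IsLU.pow_p {M : Matrix (Fin 2) (Fin 2) (ZMod p)} (hM : IsLU M) : M ^ p = 1 := by
  have hsq : (M - 1) * (M - 1) = 0 := by
    ext i j
    fin_cases i <;> fin_cases j <;>
      simp [Matrix.mul_apply, Fin.sum_univ_two, Matrix.one_apply, hM.1, hM.2.1, hM.2.2]
  have hz : (M - 1) ^ p = 0 := by
    obtain ⟨k, hk⟩ := Nat.exists_eq_add_of_le hp.out.two_le
    calc (M - 1) ^ p = (M - 1) ^ (2 + k) := congrArg _ hk
      _ = 0 := by rw [pow_add, pow_two, hsq, zero_mul]
  rwa [sub_pow_char_of_commute p (Commute.one_right M), one_pow, sub_eq_zero] at hz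

variable {P : Type*} [Group P] [Finite P] {e v W : P}

/-- An automorphism congruent to the identity modulo `Om` on `P` and modulo `P'` on `Om`. -/
theorem Frame.pow_mem_frattini (h : Frame p e v W) (hP : IsPGroup p P) {τ : MulAut P}
    (h1 : h.mat hP τ = 1) (hW : W⁻¹ * τ W ∈ commutator P) (x : P) :
    (τ ^ p) x * x⁻¹ ∈ commutator P := by
  set q := QuotientGroup.mk' (commutator P) with hq
  have hcm : ∀ a b : P, q a * q b = q b * q a := fun a b => by
    refine commutatorElement_eq_one_iff_mul_comm.1 ?_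
    rw [← map_commutatorElement]
    exact (QuotientGroup.eq_one_iff _).2
      (Subgroup.commutator_mem_commutator (Subgroup.mem_top a) (Subgroup.mem_top b))
  have hτq : ∀ a b : P, q a = q b → q (τ a) = q (τ b) := fun a b hab => by
    rw [hq, QuotientGroup.mk'_apply, QuotientGroup.mk'_apply, QuotientGroup.eq] at hab ⊢
    have : τ (a⁻¹ * b) ∈ (commutator P).map τ.toMonoidHom := ⟨_, hab, rfl⟩
    rwa [map_commutator_top τ, map_mul, map_inv] at this
  have hWq : q (τ W) = q W := ((QuotientGroup.eq.2 hW : (W : P ⧸ commutator P) = τ W)).symm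
  have ho : x⁻¹ * τ x ∈ Om P := by
    rw [← h.coord_eq_iff hP, h.mat_mulVec hP, h1, Matrix.one_mulVec]
  obtain ⟨l, t, ht, hlt⟩ := (h.mem_Om_iff hP).1 ho
  have hx : q (τ x) = q x * q W ^ l := by
    have : τ x = x * (W ^ l * t) := by rw [← hlt, mul_inv_cancel_left]
    rw [this, map_mul, map_mul, map_zpow, show q t = 1 from (QuotientGroup.eq_one_iff _).2 ht, mul_one]
  have hiter : ∀ k : ℕ, q ((τ ^ k) x) = q x * (q W ^ l) ^ k := by
    intro k
    induction k with
    | zero => simp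
    | succ k ih =>
      rw [pow_succ' τ k, MulAut.mul_apply]
      have e2 : q ((τ ^ k) x) = q (x * (W ^ l) ^ k) := by rw [ih, map_mul, map_pow, map_zpow]
      rw [hτq _ _ e2, map_mul, map_mul, map_pow, map_zpow, hx, map_pow, map_zpow, hWq, pow_succ', mul_assoc]
  refine (QuotientGroup.eq_one_iff _).1 ?_
  rw [← QuotientGroup.mk'_apply, ← hq, map_mul, map_inv, hiter p, mul_inv_eq_one, ← map_zpow, ← map_pow,
    mul_eq_left, ← zpow_natCast, zpow_comm, zpow_natCast, h.hW, one_zpow, map_one]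

/-- A group of automorphisms, unipotent on the coordinates and trivial on `Om / P'`, is a `p`-group. -/
theorem Frame.isPGroup_of_unipotent (h : Frame p e v W) (hP : IsPGroup p P) (Y : Subgroup (MulAut P))
    (hY : ∀ σ ∈ Y, IsLU (h.mat hP σ) ∧ W⁻¹ * σ W ∈ commutator P) : IsPGroup p Y := by
  let A : Subgroup (MulAut P) :=
    { carrier := {σ | ∀ x, σ x * x⁻¹ ∈ frattini P}
      one_mem' := fun x => by simp
      mul_mem' := fun {σ τ} hσ hτ x => by
        have := (frattini P).mul_mem (hσ (τ x)) (hτ x)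
        rwa [← mul_assoc, inv_mul_cancel_right] at this
      inv_mem' := fun {σ} hσ x => by
        have := (frattini P).inv_mem (hσ (σ⁻¹ x))
        rwa [MulAut.apply_inv_self, mul_inv_rev, inv_inv] at this }
  have hA : IsPGroup p A := CfsgLib.Fusion.isPGroup_frattini_stabilizer hP A fun σ hσ => hσ
  intro σ
  obtain ⟨hLU, hW⟩ := hY σ σ.2
  set τ := (σ : MulAut P) ^ p with hτ
  have h1 : h.mat hP τ = 1 := by
    show h.matHom hP ((σ : MulAut P) ^ p) = 1
    rw [map_pow]
    exact hLU.pow_p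
  have hWτ : W⁻¹ * τ W ∈ commutator P := (hY τ (Y.pow_mem σ.2 p)).2
  have hmem : τ ^ p ∈ A := fun x =>
    CfsgLib.PGroups.commutator_le_frattini' hP (h.pow_mem_frattini hP h1 hWτ x)
  obtain ⟨k, hk⟩ := hA ⟨_, hmem⟩
  refine ⟨2 + k, Subtype.ext ?_⟩
  have hk' := congrArg Subtype.val hk
  rw [Subgroup.coe_pow, Subgroup.coe_one] at hk'
  rw [Subgroup.coe_pow, Subgroup.coe_one, pow_add, pow_two, pow_mul, pow_mul]
  exact hk'

end CfsgLib.SmallEssential
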