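import Cfsg.Agent.Lib.LocalEvenB.SmallEssential.Replace
import Cfsg.Agent.Lib.LocalEvenB.SmallEssential.Unipotent
import Cfsg.Agent.Lib.LocalEvenB.SmallEssential.Linear

/-!
# The normalizer of a framed subgroup
-/

set_option autoImplicit false

namespace CfsgLib.SmallEssential

open Cfsg Cfsg.FusionSystem CfsgLib.Fusion
open scoped commutatorElement Matrix

variable {Ω : Type*} [Group Ω] {S : Subgroup Ω} [Finite S] {F : FusionSystem S} {p : ℕ} [hp : Fact p.Prime]
  {E T : Subgroup Ω} [Finite T] {hT : IsPGroup p T} {e v W : T} {α : MulAut T} {ε : ℤ}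

/-- `T` is normal of index `p` in its normalizer. -/
theorem normal_subgroupOf_normalizerIn (T : Subgroup Ω) : (T.subgroupOf (normalizerIn S T)).Normal :=
  ⟨fun _ ht n => conj_mem_of_mem_normalizer (P := T) n.2.2 ht⟩

omit [Finite T] in
theorem index_normalizerIn (hTS : T ≤ S) (hN : Nat.card (normalizerIn S T) = p * Nat.card T) :
    (T.subgroupOf (normalizerIn S T)).index = p := by
  have := finite_le hTS
  have h1 := (T.subgroupOf (normalizerIn S T)).card_mul_index
  rw [Nat.card_congr (Subgroup.subgroupOfEquivOfLe (le_normalizerIn hTS)).toEquiv, hN, mul_comm p] at h1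
  exact Nat.eq_of_mul_eq_mul_left Nat.card_pos h1

omit [Finite T] in
/-- Powers of an element outside `T` cover the normalizer. -/
theorem exists_pow_mul (hTS : T ≤ S) (hN : Nat.card (normalizerIn S T) = p * Nat.card T)
    {g : normalizerIn S T} (hg : (g : Ω) ∉ T) (n : normalizerIn S T) :
    ∃ i : ℕ, ((g ^ i)⁻¹ * n : normalizerIn S T).val ∈ T := by
  haveI := normal_subgroupOf_normalizerIn (S := S) T
  have := finite_le (normalizerIn_le (S := S) T)
  set T' := T.subgroupOf (normalizerIn S T)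
  have hc : Nat.card (normalizerIn S T ⧸ T') = p := by
    rw [← Subgroup.index_eq_card, index_normalizerIn hTS hN]
  have hne : (QuotientGroup.mk' T') g ≠ 1 := fun h => hg ((QuotientGroup.eq_one_iff g).1 h)
  obtain ⟨i, hi⟩ := (isOfFinOrder_of_finite ((QuotientGroup.mk' T') g)).mem_powers_iff_mem_zpowers.2
    (mem_zpowers_of_prime_card hc hne (g' := (QuotientGroup.mk' T') n))
  refine ⟨i, ?_⟩
  show (g ^ i)⁻¹ * n ∈ T'
  rw [← QuotientGroup.eq_one_iff, ← QuotientGroup.mk'_apply, map_mul, map_inv, map_pow]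
  exact (congrArg (fun t => ((QuotientGroup.mk' T') g ^ i)⁻¹ * t) hi.symm).trans (inv_mul_cancel _)

omit [Finite T] in
theorem pow_p_mem (hTS : T ≤ S) (hN : Nat.card (normalizerIn S T) = p * Nat.card T)
    (g : normalizerIn S T) : ((g ^ p : normalizerIn S T) : Ω) ∈ T := by
  haveI := normal_subgroupOf_normalizerIn (S := S) T
  have := (T.subgroupOf (normalizerIn S T)).pow_index_mem g
  rwa [index_normalizerIn hTS hN] at this

omit [Finite S] hp [Finite T] in
theorem nHom_of_mem {n : normalizerIn S T} (hn : (n : Ω) ∈ T) :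
    nHom S T n = MulAut.conj (⟨n, hn⟩ : T) := MulEquiv.ext fun _ => Subtype.ext rfl

/-- With `x = [g, e]` as second generator, `g` has matrix `(1 0; 1 1)`. -/
theorem St.commutator_gen (h : St F p hT E e v W α ε) (hp2 : p ≠ 2) (hS : IsPGroup p S) (hlt : T < S)
    {g : normalizerIn S T} (hg : (g : Ω) ∉ T) :
    ∃ h1 : Core F p E T e (nHom S T g e * e⁻¹) W,
      h1.frame.coord hT (α (nHom S T g e * e⁻¹)) = (ε : ZMod p) • ![0, 1] ∧
      h1.frame.coord hT (nHom S T g e) = ![1, 1] ∧
      h1.frame.coord hT (nHom S T g (nHom S T g e * e⁻¹)) = ![0, 1] := by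
  haveI : NeZero p := ⟨hp.out.ne_zero⟩
  have hc := h.core
  set π := hc.frame.coord hT with hπ
  obtain ⟨-, hN⟩ := hc.fullyNormalized hS hlt
  set σ := nHom S T g with hσ
  set G := hc.frame.mat hT σ with hG
  set D := G - 1 with hD
  have hGD : G = 1 + D := by rw [hD]; abel
  have hGp : G ^ p = 1 := by
    have h1 : G ^ p = hc.frame.mat hT (σ ^ p) := (map_pow (hc.frame.matHom hT) σ p).symm
    rw [h1, hσ, ← map_pow, nHom_of_mem (pow_p_mem hc.TS hN g), hc.frame.mat_conj hT]
  have hDp : D ^ p = 0 := by rw [hD, sub_pow_char_of_commute p (Commute.one_right G), hGp, one_pow, sub_self]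
  have hDD := sq_eq_zero_of_pow hDp
  set x : T := σ e * e⁻¹ with hx
  have hGe : π (σ e) = ![G 0 0, G 1 0] := by
    rw [hπ]
    ext i
    fin_cases i <;> rfl
  have hπx : π x = ![D 0 0, D 1 0] := by
    rw [hx, hπ, hc.frame.coord_mul, ← hπ, hGe, hπ, hc.frame.coord_inv, hc.frame.coord_e]
    ext i
    fin_cases i <;> simp [hD, sub_eq_add_neg]
  have hxne : π x ≠ 0 := fun h0 => hg (hc.stab hS g (by
    show π (σ e) = π e
    rw [hx, hπ, hc.frame.coord_mul, hc.frame.coord_inv, ← sub_eq_add_neg, sub_eq_zero] at h0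
    exact h0))
  have hfix : π (σ x) = π x := by
    have h0 : D *ᵥ π x = 0 := by
      rw [hπx]
      have e00 := congrFun (congrFun hDD 0) 0
      have e10 := congrFun (congrFun hDD 1) 0
      simp [Matrix.mul_apply, Fin.sum_univ_two] at e00 e10
      ext i
      fin_cases i <;> simp [Matrix.mulVec, dotProduct, Fin.sum_univ_two, e00, e10]
    show hc.frame.coord hT (σ x) = π x
    rw [hc.frame.mat_mulVec hT, ← hG, hGD, Matrix.add_mulVec, Matrix.one_mulVec, ← hπ, h0, add_zero]
  have hb : D 1 0 ≠ 0 := fun hb => by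
    have e00 := congrFun (congrFun hDD 0) 0
    simp [Matrix.mul_apply, Fin.sum_univ_two, hb] at e00
    refine hxne ?_
    rw [hπx, hb, e00]
    ext i
    fin_cases i <;> rfl
  have hαmat : hc.frame.mat hT α = Matrix.diagonal ![-1, (ε : ZMod p)] := by
    refine hc.frame.mat_ext hT α ?_ ?_
    · rw [h.he, hc.frame.coord_inv, hc.frame.coord_e]
      ext i
      fin_cases i <;> simp
    · rw [h.hv]
      ext i
      fin_cases i <;> simp
  have hαx : π (α x) = ![-D 0 0, (ε : ZMod p) * D 1 0] := by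
    show hc.frame.coord hT (α x) = _
    rw [hc.frame.mat_mulVec hT, hαmat, ← hπ, hπx]
    ext i
    fin_cases i <;> simp [Matrix.mulVec_diagonal]
  have hscal : π (α x) = (ε : ZMod p) • π x := by
    rw [hαx, hπx]
    rcases h.heps with he | he
    swap
    · subst he
      ext i
      fin_cases i <;> simp
    subst he
    by_cases hr : D 0 0 = 0
    · ext i
      fin_cases i <;> simp [hr]
    exfalso
    have h2 : (2 : ZMod p) ≠ 0 := by
      intro h0
      rw [show (2 : ZMod p) = ((2 : ℕ) : ZMod p) by norm_num, ZMod.natCast_eq_zero_iff] at h0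
      exact hp2 ((Nat.prime_dvd_prime_iff_eq hp.out Nat.prime_two).1 h0)
    set s : ZMod p := -(2 * D 0 0)⁻¹ with hs
    set β : MulAut T := α * σ ^ s.val with hβ
    have hβF : β ∈ F.autGroup T := Subgroup.mul_mem _ h.mem (Subgroup.pow_mem _
      (autInducedBy_le_autGroup hc.TS (conjAut_mem g)) _)
    have hβe : π (β e) = (-(2 * D 0 0)⁻¹) • π x := by
      have h1 : hc.frame.mat hT β = Matrix.diagonal ![-1, 1] * (1 + s • D) := by
        show hc.frame.matHom hT (α * σ ^ s.val) = _
        rw [map_mul, map_pow]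
        show hc.frame.mat hT α * G ^ s.val = _
        rw [hαmat, hGD, one_add_pow hDD, ← Nat.cast_smul_eq_nsmul (ZMod p), ZMod.natCast_zmod_val,
          Int.cast_one]
      show hc.frame.coord hT (β e) = _
      rw [hc.frame.mat_mulVec hT, h1, hc.frame.coord_e, hπx, hs]
      ext i
      fin_cases i <;> simp [Matrix.mulVec, dotProduct, Fin.sum_univ_two, Matrix.mul_apply, Matrix.one_apply,
        Matrix.diagonal] <;> field_simp <;> ring
    have hσβ : π (σ (β e)) = π (β e) := by
      show hc.frame.coord hT (σ (β e)) = _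
      rw [hc.frame.mat_mulVec hT, ← hπ, hβe, Matrix.mulVec_smul, hπ, ← hc.frame.mat_mulVec hT, ← hπ, hfix]
    have hiso : IsoIn F (β : T ≃* T) := (mem_autGroup_iff_isoIn hc.TS).1 hβF
    have htr := hc.transport hiso
    exact hg (htr.stab hS g (hc.frame.coord_congr hT htr.frame hσβ))
  have hb' : π x 1 ≠ 0 := by rw [hπx]; simpa using hb
  refine ⟨hc.replace hT hb', ?_, ?_, ?_⟩
  · have he : π (α x) = π (x ^ ε) := by
      rw [hscal, hπ, hc.frame.coord_zpow, Int.cast_smul_eq_zsmul]
    rw [hc.frame.coord_congr hT (hc.replace hT hb').frame he, (hc.replace hT hb').frame.coord_zpow,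
      (hc.replace hT hb').frame.coord_v, Int.cast_smul_eq_zsmul]
  · have : σ e = x * e := by rw [hx, inv_mul_cancel_right]
    rw [this, (hc.replace hT hb').frame.coord_mul, (hc.replace hT hb').frame.coord_v,
      (hc.replace hT hb').frame.coord_e]
    ext i
    fin_cases i <;> simp
  · rw [hc.frame.coord_congr hT (hc.replace hT hb').frame hfix, (hc.replace hT hb').frame.coord_v]

/-- The automorphisms that are unipotent on the coordinates and trivial on `Om / P'`. -/
def unipSub {e v W : T} (h : Frame p e v W) (A : Subgroup (MulAut T)) : Subgroup A where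
  carrier := {σ | IsLU (h.mat hT σ) ∧ W⁻¹ * (σ : MulAut T) W ∈ commutator T}
  one_mem' := by
    refine ⟨?_, by simp⟩
    rw [Subgroup.coe_one, show h.mat hT 1 = 1 from map_one (h.matHom hT)]
    exact ⟨rfl, rfl, rfl⟩
  mul_mem' := fun {σ τ} hσ hτ => by
    refine ⟨?_, ?_⟩
    · rw [Subgroup.coe_mul, show h.mat hT ((σ : MulAut T) * τ) = h.mat hT σ * h.mat hT τ from
        map_mul (h.matHom hT) _ _]
      exact hσ.1.mul hτ.1
    · have h2 : (σ : MulAut T) (W⁻¹ * (τ : MulAut T) W) ∈ (commutator T).map (σ : MulAut T).toMonoidHom :=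
        ⟨_, hτ.2, rfl⟩
      rw [map_commutator_top, map_mul, map_inv] at h2
      have := (commutator T).mul_mem hσ.2 h2
      rwa [← mul_assoc, mul_inv_cancel_right] at this
  inv_mem' := fun {σ} hσ => by
    refine ⟨hσ.1.of_inv ?_, ?_⟩
    · rw [Subgroup.coe_inv, ← show h.mat hT ((σ : MulAut T) * (σ : MulAut T)⁻¹) = h.mat hT σ * h.mat hT
        (σ : MulAut T)⁻¹ from map_mul (h.matHom hT) _ _, mul_inv_cancel]
      exact map_one (h.matHom hT)
    · have h2 : (σ : MulAut T)⁻¹ (W⁻¹ * (σ : MulAut T) W) ∈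
          (commutator T).map ((σ : MulAut T)⁻¹).toMonoidHom := ⟨_, hσ.2, rfl⟩
      rw [map_commutator_top, map_mul, map_inv, MulAut.inv_apply_self] at h2
      have := (commutator T).inv_mem h2
      rwa [mul_inv_rev, inv_inv] at this

/-- An element of a `p`-group of `N_S(T)` fixes `W` modulo `T'`. -/
theorem W_congr {hT : IsPGroup p T} {e v W : T} (h : Frame p e v W) (hS : IsPGroup p S) (g : normalizerIn S T) :
    W⁻¹ * nHom S T g W ∈ commutator T := by
  set q := QuotientGroup.mk' (commutator T) with hq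
  have hσq : ∀ (σ : MulAut T) (a b : T), q a = q b → q (σ a) = q (σ b) := fun σ a b hab => by
    rw [hq, QuotientGroup.mk'_apply, QuotientGroup.mk'_apply, QuotientGroup.eq] at hab ⊢
    have : σ (a⁻¹ * b) ∈ (commutator T).map σ.toMonoidHom := ⟨_, hab, rfl⟩
    rwa [map_commutator_top σ, map_mul, map_inv] at this
  obtain ⟨m, t, ht, hm⟩ := (h.mem_Om_iff hT).1 (Om_map (nHom S T g) h.W_mem_Om)
  have hm' : q (nHom S T g W) = q (W ^ m) := by
    rw [hm, map_mul, show q t = 1 from (QuotientGroup.eq_one_iff _).2 ht, mul_one]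
  have hiter : ∀ k : ℕ, q ((nHom S T g ^ k) W) = q (W ^ (m ^ k)) := by
    intro k
    induction k with
    | zero => simp
    | succ k ih =>
      rw [pow_succ' (nHom S T g) k, MulAut.mul_apply, hσq _ _ _ ih, map_zpow (nHom S T g), map_zpow, hm',
        ← map_zpow, ← zpow_mul, pow_succ']
  obtain ⟨k, hk⟩ := (hS.to_le (normalizerIn_le (S := S) T)) g
  have h1 := hiter (p ^ k)
  rw [← map_pow, hk, map_one, MulAut.one_apply, map_zpow] at h1
  have hWne : q W ≠ 1 := fun h0 => h.hWnot ((QuotientGroup.eq_one_iff _).1 h0)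
  have ho : orderOf (q W) = p := orderOf_eq_prime (by rw [← map_pow, h.hW, map_one]) hWne
  have h2 : ((m ^ p ^ k : ℤ) : ZMod p) = ((1 : ℤ) : ZMod p) := by
    rw [ZMod.intCast_eq_intCast_iff]
    have h4 := zpow_eq_zpow_iff_modEq.1 (h1.symm.trans (zpow_one (q W)).symm)
    rwa [ho] at h4
  rw [Int.cast_pow, ZMod.pow_card_pow] at h2
  refine (QuotientGroup.eq).1 ?_
  show q W = q (nHom S T g W)
  rw [hm', map_zpow]
  symm
  calc q W ^ m = q W ^ (1 : ℤ) := zpow_eq_zpow_iff_modEq.2 (by
        rw [ho, ← ZMod.intCast_eq_intCast_iff]; exact h2)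
    _ = q W := zpow_one _

/-- `α` conjugates `g` into the coset of `g ^ (-ε)`. -/
theorem exists_conj_image (hS : IsPGroup p S) (hF : F.IsSaturated p) (hlt : T < S) (h1 : Core F p E T e v W)
    (hT : IsPGroup p T) (hmem : α ∈ F.autGroup T) (hαe : α e = e⁻¹) (heps : ε = 1 ∨ ε = -1)
    (hαv : h1.frame.coord hT (α v) = (ε : ZMod p) • ![0, 1])
    {g : normalizerIn S T} (hg : (g : Ω) ∉ T) (hge : h1.frame.coord hT (nHom S T g e) = ![1, 1])
    (hgv : h1.frame.coord hT (nHom S T g v) = ![0, 1]) :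
    ∃ n : normalizerIn S T, α * nHom S T g = nHom S T n * α ∧
      ((g ^ (-ε))⁻¹ * n : normalizerIn S T).val ∈ T := by
  classical
  haveI : NeZero p := ⟨hp.out.ne_zero⟩
  have hTS := h1.TS
  have := finite_mulAut_of_le (S := S) hTS
  obtain ⟨hfn, hN⟩ := h1.fullyNormalized hS hlt
  set f := h1.frame
  have hG : f.mat hT (nHom S T g) = 1 + Matrix.single 1 0 1 := by
    refine f.mat_ext hT _ ?_ ?_
    · rw [hge]; ext i; fin_cases i <;> simp [Matrix.one_apply, Matrix.single_apply]
    · rw [hgv]; ext i; fin_cases i <;> simp [Matrix.one_apply, Matrix.single_apply]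
  have hGi : ∀ i : ℕ, f.mat hT (nHom S T (g ^ i)) = 1 + Matrix.single 1 0 (i : ZMod p) := fun i => by
    show f.matHom hT (nHom S T (g ^ i)) = _
    rw [map_pow, map_pow]
    show f.mat hT (nHom S T g) ^ i = _
    rw [hG, one_add_pow (by simp)]
    congr 1
    ext a b
    simp [Matrix.single_apply]
  have hnmat : ∀ (n : normalizerIn S T) (i : ℕ), ((g ^ i)⁻¹ * n : normalizerIn S T).val ∈ T →
      f.mat hT (nHom S T n) = 1 + Matrix.single 1 0 (i : ZMod p) := fun n i hni => by
    rw [show n = g ^ i * ((g ^ i)⁻¹ * n) by group, map_mul (nHom S T)]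
    show f.matHom hT (_ * _) = _
    rw [map_mul, show f.matHom hT (nHom S T ((g ^ i)⁻¹ * n)) = 1 by
      rw [nHom_of_mem hni]; exact f.mat_conj hT _, mul_one]
    exact hGi i
  set A := F.autGroup T
  set U := (autInducedBy S T).subgroupOf A with hU
  have hUmat : ∀ σ ∈ U, IsLU (f.mat hT (σ : MulAut T)) ∧ W⁻¹ * (σ : MulAut T) W ∈ commutator T := by
    intro σ hσ
    obtain ⟨n, hn, hn'⟩ := mem_autInducedBy_iff.1 (hσ : (σ : MulAut T) ∈ autInducedBy S T)
    have hnN : n ∈ normalizerIn S T := ⟨hn, mem_normalizer_of_conj_eq _ hn'⟩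
    rw [show (σ : MulAut T) = nHom S T ⟨n, hnN⟩ from MulEquiv.ext fun x => Subtype.ext (hn' x)]
    obtain ⟨i, hi⟩ := exists_pow_mul hTS hN hg ⟨n, hnN⟩
    refine ⟨?_, W_congr (hT := hT) f hS _⟩
    rw [hnmat _ i hi]
    refine ⟨?_, ?_, ?_⟩ <;> simp [Matrix.one_apply, Matrix.single_apply]
  set Y := unipSub (hT := hT) f A with hY
  have hYp : IsPGroup p Y := by
    have hp' : IsPGroup p (Y.map A.subtype) := f.isPGroup_of_unipotent hT _ fun σ hσ => by
      obtain ⟨τ, hτ, rfl⟩ := hσ
      exact hτ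
    exact hp'.of_injective ((A.subtype.comp Y.subtype).codRestrict (Y.map A.subtype) fun y => ⟨y, y.2, rfl⟩)
      fun a b hab => Subtype.ext (Subtype.ext (congrArg Subtype.val hab :))
  obtain ⟨R, hR⟩ := (IsSaturated.fullyAutomized hS hF hfn).2
  have hUY : U ≤ Y := fun σ hσ => hUmat σ hσ
  have hYU : Y ≤ U := by
    have hRY : (R : Subgroup A) ≤ Y := by rw [hR]; exact hUY
    have := R.is_maximal' hYp hRY
    rw [this, hR]
  set a : A := ⟨α, hmem⟩ with ha
  set c : A := ⟨nHom S T g, autInducedBy_le_autGroup hTS (conjAut_mem g)⟩ with hc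
  have hαmat : f.mat hT α = Matrix.diagonal ![-1, (ε : ZMod p)] := by
    refine f.mat_ext hT α ?_ ?_
    · rw [hαe, f.coord_inv, f.coord_e]
      ext i
      fin_cases i <;> simp
    · rw [hαv]
      ext i
      fin_cases i <;> simp
  have hε2 : (ε : ZMod p) * ε = 1 := by rcases heps with rfl | rfl <;> simp
  have hαsq : f.mat hT α * f.mat hT α = 1 := by
    rw [hαmat, Matrix.diagonal_mul_diagonal]
    ext i j
    fin_cases i <;> fin_cases j <;> simp [Matrix.diagonal, hε2]
  have hinv : f.mat hT α⁻¹ = f.mat hT α := by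
    calc f.mat hT α⁻¹ = f.mat hT α⁻¹ * (f.mat hT α * f.mat hT α) := by rw [hαsq, mul_one]
      _ = f.matHom hT (α⁻¹ * α) * f.mat hT α := by rw [map_mul, mul_assoc]; rfl
      _ = _ := by rw [inv_mul_cancel, map_one, one_mul]
  have hconjmat : f.mat hT ((a * c * a⁻¹ : A) : MulAut T) =
      f.mat hT α * f.mat hT (nHom S T g) * f.mat hT α := by
    show f.matHom hT (α * nHom S T g * α⁻¹) = _
    rw [map_mul, map_mul]
    exact congrArg (f.mat hT α * f.mat hT (nHom S T g) * ·) hinv
  have hmemY : a * c * a⁻¹ ∈ Y := by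
    refine ⟨?_, ?_⟩
    · rw [hconjmat]
      exact (hUmat c (conjAut_mem g)).1.conj (by rw [hαmat]; simp) hαsq
    · obtain ⟨m, t, ht, hm⟩ := (f.mem_Om_iff hT).1 (Om_map (α⁻¹ : MulAut T) f.W_mem_Om)
      set q := QuotientGroup.mk' (commutator T) with hq
      have hσq : ∀ (σ : MulAut T) (a b : T), q a = q b → q (σ a) = q (σ b) := fun σ a b hab => by
        rw [hq, QuotientGroup.mk'_apply, QuotientGroup.mk'_apply, QuotientGroup.eq] at hab ⊢
        have : σ (a⁻¹ * b) ∈ (commutator T).map σ.toMonoidHom := ⟨_, hab, rfl⟩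
        rwa [map_commutator_top σ, map_mul, map_inv] at this
      refine QuotientGroup.eq.1 ?_
      show q W = q (α (nHom S T g (α⁻¹ W)))
      have e1 : q (nHom S T g (α⁻¹ W)) = q (α⁻¹ W) := by
        have hW' : q (nHom S T g W) = q W :=
          ((QuotientGroup.eq.2 (W_congr (hT := hT) f hS g) : (W : T ⧸ commutator T) = nHom S T g W)).symm
        have e0 : q (α⁻¹ W) = q (W ^ m) := by
          rw [hm, map_mul, show q t = 1 from (QuotientGroup.eq_one_iff _).2 ht, mul_one]
        rw [hσq _ _ _ e0, map_zpow (nHom S T g), map_zpow, hW', e0, map_zpow]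
      rw [hσq _ _ _ e1, MulAut.apply_inv_self]
  obtain ⟨n, hn, hn'⟩ := mem_autInducedBy_iff.1 (hYU hmemY : ((a * c * a⁻¹ : A) : MulAut T) ∈ autInducedBy S T)
  set nn : normalizerIn S T := ⟨n, hn, mem_normalizer_of_conj_eq _ hn'⟩
  have hnn : α * nHom S T g * α⁻¹ = nHom S T nn := MulEquiv.ext fun x => Subtype.ext (hn' x)
  refine ⟨nn, by rw [← hnn, inv_mul_cancel_right], ?_⟩
  obtain ⟨i, hi⟩ := exists_pow_mul hTS hN hg nn
  have hiε : ((i : ℤ) : ZMod p) = ((-ε : ℤ) : ZMod p) := by
    have h2 : f.mat hT α * f.mat hT (nHom S T g) * f.mat hT α = f.mat hT (nHom S T nn) := by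
      rw [← hnn, ← hconjmat]; rfl
    rw [hnmat nn i hi, hαmat, hG] at h2
    have h3 := congrFun (congrFun h2 1) 0
    simp [Matrix.mul_apply, Fin.sum_univ_two, Matrix.diagonal, Matrix.single_apply, Matrix.one_apply] at h3
    simpa using h3.symm
  obtain ⟨m, hm⟩ := (ZMod.intCast_eq_intCast_iff_dvd_sub _ _ _).1 hiε
  rw [show (g ^ (-ε))⁻¹ * nn = (g ^ ((p : ℤ) * m))⁻¹ * ((g ^ i)⁻¹ * nn) by
    rw [← zpow_natCast g i, ← mul_assoc, ← mul_inv_rev, ← zpow_add, ← hm]; congr 3; ring]
  refine T.mul_mem (T.inv_mem ?_) hi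
  rw [zpow_mul, zpow_natCast, SubgroupClass.coe_zpow]
  exact T.zpow_mem (pow_p_mem hTS hN g) m

end CfsgLib.SmallEssential
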