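import Cfsg.Agent.Lib.LocalEvenB.SmallEssential.Core

/-!
# Changing the second generator
-/

set_option autoImplicit false

namespace CfsgLib.SmallEssential

open Cfsg Cfsg.FusionSystem CfsgLib.Fusion
open scoped commutatorElement Matrix

variable {Ω : Type*} [Group Ω] {S : Subgroup Ω} {F : FusionSystem S} {p : ℕ} [hp : Fact p.Prime]
  {E T : Subgroup Ω} {e v W : T}

/-- Equality of coordinates does not depend on the frame. -/
theorem Frame.coord_congr {P : Type*} [Group P] [Finite P] (hP : IsPGroup p P) {e v W e' v' W' : P}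
    (h : Frame p e v W) (h' : Frame p e' v' W') {x y : P} (hxy : h.coord hP x = h.coord hP y) :
    h'.coord hP x = h'.coord hP y :=
  (h'.coord_eq_iff hP).2 ((h.coord_eq_iff hP).1 hxy)

/-- The configuration with an automorphism. -/
structure St [Finite T] (F : FusionSystem S) (p : ℕ) [Fact p.Prime] (hT : IsPGroup p T) (E : Subgroup Ω)
    (e v W : T) (α : MulAut T) (ε : ℤ) : Prop where
  core : Core F p E T e v W
  mem : α ∈ F.autGroup T
  heps : ε = 1 ∨ ε = -1
  he : α e = e⁻¹
  hW : α W = W
  hv : core.frame.coord hT (α v) = (ε : ZMod p) • ![0, 1]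

variable [Finite T]

theorem Core.replace (h : Core F p E T e v W) (hT : IsPGroup p T) {v' : T}
    (hb : h.frame.coord hT v' 1 ≠ 0) : Core F p E T e v' W :=
  ⟨h.TS, h.ET, h.eE, h.WE, h.hel, h.cardE, h.frame.replace hT hb, h.cardT, h.cent, h.norm, h.FN⟩

/-- Adjusting a triangular automorphism. -/
theorem Core.exists_adjust (h : Core F p E T e v W) (hp2 : p ≠ 2) (hT : IsPGroup p T) {α : MulAut T}
    (hα : α ∈ F.autGroup T) (hαe : α e = e⁻¹) (hαW : α W = W) {r : ZMod p} {ε : ℤ} (heps : ε = 1 ∨ ε = -1)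
    (hαv : h.frame.coord hT (α v) = ![r, (ε : ZMod p)]) :
    ∃ (v' : T) (α' : MulAut T), St F p hT E e v' W α' ε := by
  haveI : NeZero p := ⟨hp.out.ne_zero⟩
  have h2 : (2 : ZMod p) ≠ 0 := by
    intro h0
    rw [show (2 : ZMod p) = ((2 : ℕ) : ZMod p) by norm_num, ZMod.natCast_eq_zero_iff] at h0
    exact hp2 ((Nat.prime_dvd_prime_iff_eq hp.out Nat.prime_two).1 h0)
  rcases heps with rfl | rfl
  · set s : ℤ := ((r / 2).val : ℤ) with hs
    have hsz : (s : ZMod p) = r / 2 := by simp [hs]
    set v' := v * e ^ s with hv'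
    have hcv : h.frame.coord hT v' = ![r / 2, 1] := by
      rw [hv', h.frame.coord_mul, h.frame.coord_zpow, h.frame.coord_v, h.frame.coord_e,
        ← Int.cast_smul_eq_zsmul (ZMod p), hsz]
      ext k
      fin_cases k <;> simp
    have hfix : h.frame.coord hT (α v') = h.frame.coord hT v' := by
      rw [hcv, hv', map_mul, map_zpow, hαe, h.frame.coord_mul, hαv, h.frame.coord_zpow, h.frame.coord_inv,
        h.frame.coord_e, ← Int.cast_smul_eq_zsmul (ZMod p), hsz, Int.cast_one]
      ext k
      fin_cases k <;> simp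
      field_simp
      ring
    have hb : h.frame.coord hT v' 1 ≠ 0 := by rw [hcv]; simp
    refine ⟨v', α, ⟨h.replace hT hb, hα, Or.inl rfl, hαe, hαW, ?_⟩⟩
    rw [h.frame.coord_congr hT (h.replace hT hb).frame hfix, (h.replace hT hb).frame.coord_v, Int.cast_one,
      one_smul]
  · have hM : h.frame.mat hT α = -1 + Matrix.single 0 1 r := by
      refine h.frame.mat_ext hT α ?_ ?_
      · rw [hαe, h.frame.coord_inv, h.frame.coord_e]
        ext i
        fin_cases i <;> simp [Matrix.one_apply, Matrix.single_apply]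
      · rw [hαv]
        ext i
        fin_cases i <;> simp [Matrix.one_apply, Matrix.single_apply]
    have hodd : Odd p := hp.out.odd_of_ne_two hp2
    have hpow : h.frame.mat hT (α ^ p) = -1 := by
      show h.frame.matHom hT (α ^ p) = -1
      rw [map_pow]
      show (h.frame.mat hT α) ^ p = -1
      rw [hM, add_pow_char_of_commute p ((Commute.one_left _).neg_left), hodd.neg_one_pow]
      have hsq : (Matrix.single 0 1 r : Matrix (Fin 2) (Fin 2) (ZMod p)) ^ p = 0 := by
        obtain ⟨k, hk⟩ := Nat.exists_eq_add_of_le hp.out.two_le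
        calc (Matrix.single 0 1 r : Matrix (Fin 2) (Fin 2) (ZMod p)) ^ p
            = (Matrix.single 0 1 r) ^ (2 + k) := congrArg _ hk
          _ = 0 := by rw [pow_add, pow_two]; simp
      rw [hsq, add_zero]
    have he : ∀ k : ℕ, (α ^ k) e = e ^ ((-1 : ℤ) ^ k) := by
      intro k
      induction k with
      | zero => simp
      | succ k ih => rw [pow_succ' α k, MulAut.mul_apply, ih, map_zpow, hαe, inv_zpow', pow_succ, mul_neg_one]
    have hW : ∀ k : ℕ, (α ^ k) W = W := by
      intro k
      induction k with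
      | zero => simp
      | succ k ih => rw [pow_succ' α k, MulAut.mul_apply, ih, hαW]
    refine ⟨v, α ^ p, ⟨h, Subgroup.pow_mem _ hα p, Or.inr rfl, ?_, hW p, ?_⟩⟩
    · rw [he p, hodd.neg_one_pow, zpow_neg_one]
    · rw [h.frame.mat_mulVec hT, hpow, h.frame.coord_v, Matrix.neg_mulVec, Matrix.one_mulVec]
      simp

end CfsgLib.SmallEssential
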